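import Groth.Agent.HopfLib.GITPoints
import Groth.Agent.CAlgSmall.NormNagata
import Groth.Agent.CAlgH.NagataFiniteType
import Groth.Agent.NormalizationLib.Finite
import Mathlib.RingTheory.Ideal.KrullsHeightTheorem
import Mathlib.RingTheory.DiscreteValuationRing.TFAE

/-! # Curves reaching the boundary of an image -/

set_option autoImplicit false
set_option backward.isDefEq.respectTransparency.types false

noncomputable section

namespace Groth.Agent.HMCrit29

universe u

theorem eq_bot_of_lt_minimalPrimes {B : Type u} [CommRing B] [IsDomain B] [IsNoetherianRing B] {g : B}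
    {P Q : Ideal B} (hP : P ∈ (Ideal.span {g}).minimalPrimes) [Q.IsPrime] (h : Q < P) : Q = ⊥ := by
  haveI := hP.1.1
  have h1 : P.height ≤ 1 := by
    haveI : (Ideal.span {g}).IsPrincipal := ⟨⟨g, rfl⟩⟩
    exact Ideal.height_le_one_of_isPrincipal_of_mem_minimalPrimes _ _ hP
  have h2 : Q.height < 1 := lt_of_lt_of_le (Ideal.height_strict_mono_of_isPrime h) h1
  have h3 : Q ∈ minimalPrimes B := Ideal.height_eq_zero_iff.1 (Order.lt_one_iff.1 h2)
  rw [IsDomain.minimalPrimes_eq_singleton_bot] at h3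
  exact h3

/-- a prime of coheight one below a maximal ideal, avoiding an element -/
theorem exists_prime_coheight_one {R : Type u} [CommRing R] [IsNoetherianRing R] (q m : Ideal R) [q.IsPrime]
    [m.IsMaximal] (hqm : q < m) {f : R} (hf : f ∉ q) :
    ∃ p : Ideal R, p.IsPrime ∧ q ≤ p ∧ p < m ∧ f ∉ p ∧ ∀ P : Ideal R, P.IsPrime → p < P → P ≤ m → P = m := by
  classical
  obtain ⟨p, ⟨hp, hqp, hpm, hfp⟩, hmax⟩ := set_has_maximal_iff_noetherian.2 (inferInstance : IsNoetherian R R)
    {p : Ideal R | p.IsPrime ∧ q ≤ p ∧ p < m ∧ f ∉ p} ⟨q, inferInstance, le_rfl, hqm, hf⟩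
  refine ⟨p, hp, hqp, hpm, hfp, fun P hP hpP hPm => ?_⟩
  by_contra hne
  have hfP : f ∈ P := by
    by_contra h
    exact hmax P ⟨hP, hqp.trans hpP.le, lt_of_le_of_ne hPm hne, h⟩ hpP
  let π := Ideal.Quotient.mk p
  have hπ : Function.Surjective π := Ideal.Quotient.mk_surjective
  haveI : IsDomain (R ⧸ p) := (Ideal.Quotient.isDomain_iff_prime p).2 hp
  have hbig : ∀ Q : Ideal (R ⧸ p), Q.IsPrime → Q ≠ ⊥ → Q < m.map π → π f ∈ Q := by
    intro Q hQ hQ0 hQm
    by_contra h
    haveI := hQ
    have hpQ : p < Q.comap π := by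
      refine lt_of_le_of_ne (fun z hz => ?_) fun he => hQ0 ?_
      · rw [Ideal.mem_comap, show π z = 0 from Ideal.Quotient.eq_zero_iff_mem.2 hz]; exact zero_mem _
      · rw [← Ideal.map_comap_of_surjective π hπ Q, ← he, Ideal.map_quotient_self]
    have hQm' : Q.comap π < m := by
      refine lt_of_le_of_ne ?_ fun he => hQm.ne (by rw [← Ideal.map_comap_of_surjective π hπ Q, he])
      have := Ideal.comap_mono (f := π) hQm.le
      rwa [Ideal.comap_map_of_surjective π hπ, ← RingHom.ker_eq_comap_bot, Ideal.mk_ker, sup_eq_left.2 hpm.le] at this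
    exact hmax _ ⟨inferInstance, hqp.trans hpQ.le, hQm', h⟩ hpQ
  haveI hmb : (m.map π).IsMaximal :=
    Ideal.IsMaximal.map_of_surjective_of_ker_le hπ (by rw [Ideal.mk_ker]; exact hpm.le)
  have hPb : ∃ Q : Ideal (R ⧸ p), Q.IsPrime ∧ Q ≠ ⊥ ∧ Q < m.map π := by
    have hkP : RingHom.ker π ≤ P := by rw [Ideal.mk_ker]; exact hpP.le
    refine ⟨P.map π, Ideal.map_isPrime_of_surjective hπ hkP, fun h => ?_, lt_of_le_of_ne (Ideal.map_mono hPm) fun he => hne ?_⟩
    · exact hpP.not_ge (by rw [← Ideal.mk_ker (I := p)]; exact (Ideal.map_eq_bot_iff_le_ker π).1 h)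
    · have := congrArg (Ideal.comap π) he
      rwa [Ideal.comap_map_of_surjective π hπ, Ideal.comap_map_of_surjective π hπ, ← RingHom.ker_eq_comap_bot,
        sup_eq_left.2 hkP, sup_eq_left.2 (by rw [Ideal.mk_ker]; exact hpm.le)] at this
  let S : Finset (Ideal (R ⧸ p)) :=
    ((Ideal.span {π f}).finite_minimalPrimes_of_isNoetherianRing).toFinset.filter (fun Q => Q ≠ m.map π)
  have hnot : ¬ ((m.map π : Ideal (R ⧸ p)) : Set (R ⧸ p)) ⊆ ⋃ Q ∈ (S : Set (Ideal (R ⧸ p))), (Q : Set (R ⧸ p)) := by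
    intro hsub
    obtain ⟨Q, hQ, hle⟩ := (Ideal.subset_union_prime ⊥ ⊥ (fun Q hQ _ _ => by
      simp only [S, Finset.mem_filter, Set.Finite.mem_toFinset] at hQ
      exact hQ.1.1.1)).1 hsub
    simp only [S, Finset.mem_filter, Set.Finite.mem_toFinset] at hQ
    exact hQ.2 (hmb.eq_of_le hQ.1.1.1.ne_top hle).symm
  obtain ⟨g, hgm, hgS⟩ := Set.not_subset.1 hnot
  have hg0 : g ≠ 0 ∨ S = ∅ := by
    rcases S.eq_empty_or_nonempty with h | ⟨Q, hQ⟩
    · exact Or.inr h
    · refine Or.inl fun h => hgS (Set.mem_iUnion₂.2 ⟨Q, hQ, ?_⟩)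
      rw [h]; exact zero_mem Q
  obtain ⟨Q₀, hQ₀, hQ₀0, hQ₀m⟩ := hPb
  haveI := hQ₀
  obtain ⟨Q₁, hQ₁, hQ₁le⟩ := Ideal.exists_minimalPrimes_le (show Ideal.span {π f} ≤ Q₀ from
    (Ideal.span_singleton_le_iff_mem _).2 (hbig Q₀ hQ₀ hQ₀0 hQ₀m))
  have hSne : S ≠ ∅ := Finset.ne_empty_of_mem (Finset.mem_filter.2
    ⟨(Set.Finite.mem_toFinset _).2 hQ₁, fun h => hQ₀m.not_ge (h ▸ hQ₁le)⟩)
  replace hg0 := hg0.resolve_right hSne
  obtain ⟨P₁, hP₁, hP₁le⟩ := Ideal.exists_minimalPrimes_le (show Ideal.span {g} ≤ m.map π from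
    (Ideal.span_singleton_le_iff_mem _).2 hgm)
  rcases lt_or_eq_of_le hP₁le with hlt | heq
  · haveI := hP₁.1.1
    have hP₁0 : P₁ ≠ ⊥ := fun h => hg0 (by simpa [h] using hP₁.1.2)
    obtain ⟨Q₂, hQ₂, hQ₂le⟩ := Ideal.exists_minimalPrimes_le (show Ideal.span {π f} ≤ P₁ from
      (Ideal.span_singleton_le_iff_mem _).2 (hbig P₁ inferInstance hP₁0 hlt))
    haveI := hQ₂.1.1
    have hQ₂0 : Q₂ ≠ ⊥ := fun h => by
      have : π f = 0 := by simpa [h] using hQ₂.1.2
      exact hfp (Ideal.Quotient.eq_zero_iff_mem.1 this)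
    have hQP : Q₂ = P₁ := by
      by_contra hne'
      exact hQ₂0 (eq_bot_of_lt_minimalPrimes hP₁ (lt_of_le_of_ne hQ₂le hne'))
    refine hgS (Set.mem_iUnion₂.2 ⟨Q₂, Finset.mem_filter.2 ⟨(Set.Finite.mem_toFinset _).2 hQ₂, hQP ▸ hlt.ne⟩, ?_⟩)
    exact hQP ▸ hP₁.1.2 (Ideal.mem_span_singleton_self g)
  · exact hQ₀0 (eq_bot_of_lt_minimalPrimes hP₁ (heq ▸ hQ₀m))

variable {k : Type u} [Field k] [IsAlgClosed k]

/-- a discrete valuation ring over a height one maximal ideal in a finite extension -/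
theorem exists_dvr_over {B : Type u} [CommRing B] [IsDomain B] [Algebra k B] [Algebra.FiniteType k B] (K L : Type u)
    [Field K] [Algebra B K] [IsFractionRing B K] [Field L] [Algebra K L] [Module.Finite K L] [Algebra B L]
    [IsScalarTower B K L] [Algebra k L] [IsScalarTower k B L] (mB : Ideal B) [mB.IsMaximal] (hmB0 : mB ≠ ⊥)
    (hcov : ∀ P : Ideal B, P.IsPrime → P ≠ ⊥ → P ≤ mB → P = mB) :
    ∃ (O : Type u) (_ : CommRing O) (_ : IsDomain O) (_ : IsDiscreteValuationRing O) (_ : Algebra k O)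
      (_ : Algebra O L) (_ : IsFractionRing O L) (_ : IsScalarTower k O L) (ϖ : O) (_ : Irreducible ϖ)
      (_ : O →ₐ[k] k), ∀ x ∈ mB, ∃ o, algebraMap B L x = algebraMap O L (ϖ * o) := by
  classical
  haveI : IsNoetherianRing B := Algebra.FiniteType.isNoetherianRing k B
  have hBinj : Function.Injective (algebraMap B L) := by
    rw [IsScalarTower.algebraMap_eq B K L]
    exact ((algebraMap K L).injective).comp (IsFractionRing.injective B K)
  haveI : Algebra.EssFiniteType B L := by
    haveI : Algebra.EssFiniteType B K := Algebra.EssFiniteType.of_isLocalization K (nonZeroDivisors B)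
    exact Algebra.EssFiniteType.comp B K L
  let C := integralClosure B L
  haveI : Module.Finite B C := Groth.Agent.CAlgSmall.NormNagata.finite_ic_field
    (CAlgH.isNagata_of_finiteType (NormalizationLib.isNagata_field k) B) L
  haveI : IsFractionRing C L := integralClosure.isFractionRing_of_finite_extension K L
  haveI : IsIntegrallyClosed C := integralClosure.isIntegrallyClosedOfFiniteExtension K
  haveI : IsNoetherianRing C := IsNoetherianRing.of_finite B C
  letI : Algebra k C := ((algebraMap B C).comp (algebraMap k B)).toAlgebra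
  haveI : IsScalarTower k B C := IsScalarTower.of_algebraMap_eq fun _ => rfl
  haveI : Algebra.FiniteType k C := Algebra.FiniteType.trans (S := B) (A := C) inferInstance inferInstance
  have hBC : RingHom.ker (algebraMap B C) = ⊥ :=
    (RingHom.injective_iff_ker_eq_bot _).1 fun a b hab => hBinj (congrArg Subtype.val hab)
  obtain ⟨N, hN, hNm⟩ := Ideal.exists_ideal_over_maximal_of_isIntegral (S := C) mB (hBC ▸ bot_le)
  haveI := hN
  obtain ⟨e, he⟩ := Groth.Agent.HopfLib.exists_algHom_le_ker (k := k) (R := C) hN.ne_top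
  have hNe : N = RingHom.ker e := hN.eq_of_le (RingHom.ker_ne_top _) he
  let O := Localization.subalgebra.ofField L N.primeCompl N.primeCompl_le_nonZeroDivisors
  haveI : IsLocalization.AtPrime O N := inferInstanceAs (IsLocalization N.primeCompl O)
  haveI : IsLocalRing O := IsLocalization.AtPrime.isLocalRing O N
  haveI : IsFractionRing O L := inferInstance
  haveI : IsNoetherianRing O := IsLocalization.isNoetherianRing N.primeCompl O inferInstance
  haveI : IsIntegrallyClosed O := isIntegrallyClosed_of_isLocalization O N.primeCompl N.primeCompl_le_nonZeroDivisors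
  have hprimes : ∀ Q : Ideal C, Q.IsPrime → Q ≤ N → Q = ⊥ ∨ Q = N := by
    intro Q hQ hQN
    haveI := hQ
    rcases eq_or_ne (Q.comap (algebraMap B C)) ⊥ with h0 | h0
    · exact Or.inl (Ideal.eq_bot_of_comap_eq_bot h0)
    refine Or.inr ?_
    have h1 : Q.comap (algebraMap B C) = mB :=
      hcov _ inferInstance h0 (by rw [← hNm]; exact Ideal.comap_mono hQN)
    haveI : (Q.comap (algebraMap B C)).IsMaximal := h1 ▸ inferInstance
    exact (Ideal.isMaximal_of_isIntegral_of_isMaximal_comap (R := B) Q inferInstance).eq_of_le hN.ne_top hQN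
  haveI : Ring.DimensionLEOne O := ⟨fun {Q} hQ0 hQ => by
    haveI := hQ
    obtain ⟨hQc, hQd⟩ := (IsLocalization.isPrime_iff_isPrime_disjoint N.primeCompl O Q).1 hQ
    have hle : Q.comap (algebraMap C O) ≤ N := fun x hx => by
      by_contra hxN
      exact Set.disjoint_left.1 hQd hxN hx
    rcases hprimes _ hQc hle with h | h
    · refine absurd ?_ hQ0
      rw [← IsLocalization.map_comap N.primeCompl O Q]
      exact (congrArg (Ideal.map (algebraMap C O)) h).trans Ideal.map_bot
    · have : Q = IsLocalRing.maximalIdeal O := by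
        rw [← IsLocalization.map_comap N.primeCompl O Q,
          ← IsLocalization.map_comap N.primeCompl O (IsLocalRing.maximalIdeal O)]
        exact congrArg (Ideal.map (algebraMap C O)) (h.trans (IsLocalization.AtPrime.comap_maximalIdeal O N).symm)
      exact this ▸ IsLocalRing.maximalIdeal.isMaximal O⟩
  haveI : IsDedekindDomain O := {}
  have hmem : ∀ x ∈ mB, algebraMap B C x ∈ N := fun x hx => by rw [← hNm] at hx; exact hx
  have hfield : ¬ IsField O := by
    obtain ⟨x, hx, hx0⟩ := Submodule.exists_mem_ne_zero_of_ne_bot hmB0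
    intro hF
    have h0 : algebraMap C O (algebraMap B C x) ∈ IsLocalRing.maximalIdeal O :=
      (IsLocalization.AtPrime.to_map_mem_maximal_iff O N _).2 (hmem x hx)
    rw [(IsLocalRing.isField_iff_maximalIdeal_eq).1 hF, Ideal.mem_bot] at h0
    have h1 : algebraMap B L x = 0 := congrArg Subtype.val h0
    exact hx0 (hBinj (h1.trans (map_zero _).symm))
  haveI : IsDiscreteValuationRing O := by
    have htf : IsDedekindDomain O ↔ IsDiscreteValuationRing O := (IsDiscreteValuationRing.TFAE O hfield).out 2 0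
    exact htf.1 ‹IsDedekindDomain O›
  letI : Algebra k O := ((algebraMap C O).comp (algebraMap k C)).toAlgebra
  haveI : IsScalarTower k O L := IsScalarTower.of_algebraMap_eq fun c => IsScalarTower.algebraMap_apply k B L c
  obtain ⟨ϖ, hϖ⟩ := IsDiscreteValuationRing.exists_irreducible O
  have heu : ∀ s : N.primeCompl, IsUnit (e s) := fun s => isUnit_iff_ne_zero.2 fun h => s.2 (hNe.ge (RingHom.mem_ker.2 h))
  let res : O →ₐ[k] k :=
    { IsLocalization.lift (S := O) (g := e.toRingHom) heu with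
      commutes' := fun c => (IsLocalization.lift_eq (S := O) heu _).trans (e.commutes c) }
  refine ⟨O, inferInstance, inferInstance, inferInstance, inferInstance, inferInstance, inferInstance,
    inferInstance, ϖ, hϖ, res, fun x hx => ?_⟩
  have h0 : algebraMap C O (algebraMap B C x) ∈ IsLocalRing.maximalIdeal O :=
    (IsLocalization.AtPrime.to_map_mem_maximal_iff O N _).2 (hmem x hx)
  rw [hϖ.maximalIdeal_eq, Ideal.mem_span_singleton] at h0
  obtain ⟨o, ho⟩ := h0
  exact ⟨o, congrArg Subtype.val ho⟩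

variable {R A : Type u} [CommRing R] [Algebra k R] [Algebra.FiniteType k R]
  [CommRing A] [Algebra k A] [Algebra.FiniteType k A]

omit [IsAlgClosed k] [Algebra.FiniteType k R] in
/-- a closed point of a generic fibre -/
theorem exists_finite_fibre_field (φ : R →ₐ[k] A) (p : Ideal R) [p.IsPrime] (P₀ : Ideal A) [P₀.IsPrime]
    (hP₀ : P₀.comap φ.toRingHom = p) :
    ∃ (L : Type u) (_ : Field L) (_ : Algebra (FractionRing (R ⧸ p)) L) (_ : Module.Finite (FractionRing (R ⧸ p)) L)
      (h : A →+* L), ∀ r, h (φ r) =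
        algebraMap (FractionRing (R ⧸ p)) L (algebraMap (R ⧸ p) _ (Ideal.Quotient.mk p r)) := by
  classical
  -- the generic fibre over p
  let B := R ⧸ p
  let K := FractionRing B
  letI : Algebra R A := φ.toRingHom.toAlgebra
  let κ := FractionRing (A ⧸ P₀)
  let j : B →+* κ := (algebraMap (A ⧸ P₀) κ).comp (Ideal.quotientMap P₀ φ.toRingHom hP₀.ge)
  have hj : Function.Injective j :=
    (IsFractionRing.injective (A ⧸ P₀) κ).comp (Ideal.quotientMap_injective' (H := hP₀.ge) hP₀.le)
  let jK : K →+* κ := IsFractionRing.lift hj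
  haveI : Nontrivial (TensorProduct R K A) := by
    let f₁ : K →ₐ[R] κ := { jK with
      commutes' := fun r => ((congrArg jK (IsScalarTower.algebraMap_apply R B K r)).trans
        (IsFractionRing.lift_algebraMap hj (Ideal.Quotient.mk p r))).trans
        (IsScalarTower.algebraMap_apply R (A ⧸ P₀) κ r).symm }
    let f₂ : A →ₐ[R] κ := { (algebraMap (A ⧸ P₀) κ).comp (Ideal.Quotient.mk P₀) with commutes' := fun r => (IsScalarTower.algebraMap_apply R (A ⧸ P₀) κ r).symm }
    exact (Algebra.TensorProduct.lift f₁ f₂ fun _ _ => Commute.all _ _).toRingHom.domain_nontrivial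
  obtain ⟨n, hn⟩ := Ideal.exists_maximal (TensorProduct R K A)
  haveI := hn
  let L := (TensorProduct R K A) ⧸ n
  letI : Field L := Ideal.Quotient.field n
  letI : Algebra K L := Ideal.Quotient.algebra K
  haveI : Algebra.FiniteType R A := by
    haveI : IsScalarTower k R A := IsScalarTower.of_algebraMap_eq fun c => (φ.commutes c).symm
    exact Algebra.FiniteType.of_restrictScalars_finiteType k R A
  haveI : Algebra.FiniteType K (TensorProduct R K A) := inferInstance
  haveI : Algebra.FiniteType K L := Algebra.FiniteType.of_surjective (Ideal.Quotient.mkₐ K n) Ideal.Quotient.mk_surjective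
  haveI : Module.Finite K L := finite_of_finite_type_of_isJacobsonRing K L
  let h₀ : A →+* L := (Ideal.Quotient.mk n).comp (Algebra.TensorProduct.includeRight : A →ₐ[R] _).toRingHom
  refine ⟨L, inferInstance, inferInstance, inferInstance, h₀, fun r => ?_⟩
  show Ideal.Quotient.mk n ((1 : K) ⊗ₜ[R] φ r) = algebraMap K L (algebraMap B K (algebraMap R B r))
  rw [← IsScalarTower.algebraMap_apply R B K, show φ r = r • (1 : A) by rw [Algebra.smul_def, mul_one]; rfl,
    TensorProduct.tmul_smul, TensorProduct.smul_tmul', Algebra.smul_def, mul_one]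
  rfl

/-- A point in the closure of the image is the limit of a curve in the image. -/
theorem exists_curve_of_ker_le (φ : R →ₐ[k] A) (z : R →ₐ[k] k) (hz : RingHom.ker φ ≤ RingHom.ker z)
    (hnot : ∀ g : A →ₐ[k] k, g.comp φ ≠ z) :
    ∃ (O L : Type u) (_ : CommRing O) (_ : IsDomain O) (_ : IsDiscreteValuationRing O) (_ : Algebra k O) (_ : Field L)
      (_ : Algebra O L) (_ : IsFractionRing O L) (_ : Algebra k L) (_ : IsScalarTower k O L) (ϖ : O) (_ : Irreducible ϖ)
      (_ : O →ₐ[k] k) (h : A →ₐ[k] L), ∀ r, z r = 0 → ∃ o, h (φ r) = algebraMap O L (ϖ * o) := by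
  classical
  haveI : IsNoetherianRing R := Algebra.FiniteType.isNoetherianRing k R
  haveI hm : (RingHom.ker z).IsMaximal :=
    RingHom.ker_isMaximal_of_surjective z fun c => ⟨algebraMap k R c, z.commutes c⟩
  obtain ⟨q, hq, hqm⟩ := Ideal.exists_minimalPrimes_le hz
  haveI := hq.1.1
  obtain ⟨P, hP, -, hPq⟩ := Ideal.exists_comap_eq_of_mem_minimalPrimes φ.toRingHom q hq
  haveI := hP
  have hne : q ≠ RingHom.ker z := by
    intro he
    obtain ⟨g, hg⟩ := Groth.Agent.HopfLib.exists_algHom_le_ker (k := k) hP.ne_top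
    refine hnot g (Groth.Agent.HopfLib.algHom_eq_of_ker_le (x := z) (y := g.comp φ) fun r hr => ?_).symm
    refine RingHom.mem_ker.2 ((RingHom.mem_ker).1 (hg ?_) : g (φ r) = 0)
    show r ∈ P.comap φ.toRingHom
    rw [hPq, he]
    exact hr
  let φ' : (R ⧸ q) →ₐ[k] A ⧸ P := Ideal.quotientMapₐ P φ hPq.ge
  have hφ' : Function.Injective φ' := by
    exact Ideal.quotientMap_injective' (f := φ.toRingHom) (H := hPq.ge) hPq.le
  have hfp : φ'.toRingHom.FinitePresentation := by
    haveI : IsNoetherianRing (R ⧸ q) := inferInstance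
    refine RingHom.FinitePresentation.of_finiteType.1 ?_
    refine RingHom.FiniteType.of_comp_finiteType (f := algebraMap k (R ⧸ q)) ?_
    rw [show φ'.toRingHom.comp (algebraMap k (R ⧸ q)) = algebraMap k (A ⧸ P) from φ'.comp_algebraMap]
    exact RingHom.finiteType_algebraMap.2 inferInstance
  haveI : IsDomain (R ⧸ q) := (Ideal.Quotient.isDomain_iff_prime q).2 inferInstance
  obtain ⟨U, hUo, ⟨x₀, hx₀⟩, hU⟩ := Groth.Agent.HopfLib.exists_open_subset_range_comap φ'.toRingHom hfp hφ'
  obtain ⟨_, ⟨f', rfl⟩, hxf, hfU⟩ :=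
    PrimeSpectrum.isTopologicalBasis_basic_opens.exists_subset_of_mem_open hx₀ hUo
  obtain ⟨f, rfl⟩ := Ideal.Quotient.mk_surjective f'
  have hfq : f ∉ q := fun h => hxf (by rw [Ideal.Quotient.eq_zero_iff_mem.2 h]; exact zero_mem _)
  obtain ⟨p, hp, hqp, hpm, hfp', hcov⟩ :=
    exists_prime_coheight_one q (RingHom.ker z) (lt_of_le_of_ne hqm hne) hfq
  haveI := hp
  have hkp : RingHom.ker (Ideal.Quotient.mk q) ≤ p := by rw [Ideal.mk_ker]; exact hqp
  haveI : (p.map (Ideal.Quotient.mk q)).IsPrime := Ideal.map_isPrime_of_surjective Ideal.Quotient.mk_surjective hkp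
  have hcm : (p.map (Ideal.Quotient.mk q)).comap (Ideal.Quotient.mk q) = p := by
    rw [Ideal.comap_map_of_surjective _ Ideal.Quotient.mk_surjective, ← RingHom.ker_eq_comap_bot, sup_eq_left.2 hkp]
  obtain ⟨P', hP'⟩ := hU (hfU (show Ideal.Quotient.mk q f ∉ p.map (Ideal.Quotient.mk q) from
    fun h => hfp' (hcm ▸ h)) : (⟨p.map (Ideal.Quotient.mk q), inferInstance⟩ : PrimeSpectrum (R ⧸ q)) ∈ U)
  let P₀ : Ideal A := P'.asIdeal.comap (Ideal.Quotient.mk P)
  have hP₀ : P₀.comap φ.toRingHom = p := by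
    refine Eq.trans ?_ hcm
    rw [← show P'.asIdeal.comap φ'.toRingHom = p.map (Ideal.Quotient.mk q) from congrArg PrimeSpectrum.asIdeal hP',
      Ideal.comap_comap]
    rfl
  obtain ⟨L, _, _, _, h₀, hkey⟩ := exists_finite_fibre_field φ p P₀ hP₀
  let B := R ⧸ p
  letI : Algebra B L := ((algebraMap (FractionRing B) L).comp (algebraMap B (FractionRing B))).toAlgebra
  haveI : IsScalarTower B (FractionRing B) L := IsScalarTower.of_algebraMap_eq fun _ => rfl
  letI : Algebra k L := ((algebraMap B L).comp (algebraMap k B)).toAlgebra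
  haveI : IsScalarTower k B L := IsScalarTower.of_algebraMap_eq fun _ => rfl
  haveI : IsDomain B := (Ideal.Quotient.isDomain_iff_prime p).2 hp
  let mB : Ideal B := (RingHom.ker z).map (Ideal.Quotient.mk p)
  have hkz : RingHom.ker (Ideal.Quotient.mk p) ≤ RingHom.ker z := by rw [Ideal.mk_ker]; exact hpm.le
  haveI : mB.IsMaximal := Ideal.IsMaximal.map_of_surjective_of_ker_le Ideal.Quotient.mk_surjective hkz
  have hmB : mB.comap (Ideal.Quotient.mk p) = RingHom.ker z := by
    rw [Ideal.comap_map_of_surjective _ Ideal.Quotient.mk_surjective, ← RingHom.ker_eq_comap_bot, sup_eq_left.2 hkz]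
  have hback : ∀ P : Ideal B, P.comap (Ideal.Quotient.mk p) = p → P = ⊥ := fun P h => by
    rw [← Ideal.map_comap_of_surjective _ Ideal.Quotient.mk_surjective P, h, Ideal.map_quotient_self]
  have hB0 : mB ≠ ⊥ := fun h => hpm.ne (by rw [← hmB, h, ← RingHom.ker_eq_comap_bot, Ideal.mk_ker])
  obtain ⟨O, _, _, _, _, _, _, _, ϖ, hϖ, res, ho⟩ := exists_dvr_over (k := k) (FractionRing B) L mB hB0
    fun P hP hP0 hle => by
      haveI := hP
      have hlt : p < P.comap (Ideal.Quotient.mk p) :=
        lt_of_le_of_ne (fun r hr => by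
          rw [Ideal.mem_comap, Ideal.Quotient.eq_zero_iff_mem.2 hr]; exact zero_mem _) fun h => hP0 (hback P h.symm)
      have h := hcov _ inferInstance hlt (hmB ▸ Ideal.comap_mono hle)
      rw [← Ideal.map_comap_of_surjective _ Ideal.Quotient.mk_surjective P, h]
  let h : A →ₐ[k] L :=
    { h₀ with
      commutes' := fun c => by
        show h₀ (algebraMap k A c) = algebraMap B L (algebraMap k B c)
        rw [← φ.commutes c, hkey]
        rfl }
  refine ⟨O, L, inferInstance, inferInstance, inferInstance, inferInstance, inferInstance, inferInstance,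
    inferInstance, inferInstance, inferInstance, ϖ, hϖ, res, h, fun r hr => ?_⟩
  obtain ⟨o, ho⟩ := ho (Ideal.Quotient.mk p r) (Ideal.mem_map_of_mem _ (RingHom.mem_ker.2 hr))
  exact ⟨o, (hkey r).trans ho⟩

end Groth.Agent.HMCrit29
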