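import Groth.Agent.HMCrit29.Lift
import Groth.Agent.HMCrit29.CurvePt
import Groth.Agent.HMTor29.Conj
import Groth.Agent.S12544
import Groth.Agent.HopfLib.LinearAction

/-! # The Hilbert–Mumford criterion on the affine cone -/

set_option autoImplicit false
set_option backward.isDefEq.respectTransparency.types false

noncomputable section

open TensorProduct LaurentPolynomial WithConv
open CoalgebraStruct (comul counit)
open Groth.Agent.HMTor29.Conj (post cst mul_apply' one_apply' post_apply cst_apply lf)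

namespace Groth.Agent.HMCrit29

universe u

variable {k : Type u} [Field k] {A : Type u} [CommRing A] [HopfAlgebra k A]

theorem inv_apply {R : Type u} [CommRing R] [Algebra k R] (p : WithConv (A →ₐ[k] R)) (a : A) :
    (p⁻¹).ofConv a = p.ofConv (HopfAlgebraStruct.antipode k a) := rfl

theorem antipode_antipode (a : A) : HopfAlgebraStruct.antipode k (HopfAlgebraStruct.antipode k a) = a := by
  have h := congrArg (fun p : WithConv (A →ₐ[k] A) => p.ofConv a) (inv_inv (toConv (AlgHom.id k A)))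
  exact h

theorem post_cst {R R' : Type u} [CommRing R] [Algebra k R] [CommRing R'] [Algebra k R'] (ψ : R →ₐ[k] R')
    (g : WithConv (A →ₐ[k] k)) : post ψ (cst R g) = cst R' g := by
  refine WithConv.ofConv_injective (AlgHom.ext fun a => ?_)
  rw [post_apply, cst_apply, cst_apply, AlgHom.commutes]

/-- points of the torus compatible with the group law -/
def IsOnePS (p : WithConv (A →ₐ[k] k[T;T⁻¹])) : Prop :=
  post (Bialgebra.comulAlgHom k k[T;T⁻¹]) p =
    post (Algebra.TensorProduct.includeLeft : _ →ₐ[k] k[T;T⁻¹] ⊗[k] k[T;T⁻¹]) p *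
      post (Algebra.TensorProduct.includeRight : _ →ₐ[k] k[T;T⁻¹] ⊗[k] k[T;T⁻¹]) p ∧
  post (Bialgebra.counitAlgHom k k[T;T⁻¹]) p = 1

theorem lf_includes (p : A →ₐ[k] k[T;T⁻¹]) (z : A ⊗[k] A) :
    lf ((Algebra.TensorProduct.includeLeft : _ →ₐ[k] k[T;T⁻¹] ⊗[k] k[T;T⁻¹]).comp p)
      ((Algebra.TensorProduct.includeRight : _ →ₐ[k] k[T;T⁻¹] ⊗[k] k[T;T⁻¹]).comp p) z =
    Algebra.TensorProduct.map p p z := by
  induction z with
  | zero => simp
  | add x y hx hy => simp only [map_add, hx, hy]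
  | tmul x y => simp

theorem isOnePS_bialgHom (f : A →ₐc[k] k[T;T⁻¹]) : IsOnePS (toConv (f : A →ₐ[k] k[T;T⁻¹])) := by
  refine ⟨WithConv.ofConv_injective (AlgHom.ext fun a => ?_), WithConv.ofConv_injective (AlgHom.ext fun a => ?_)⟩
  · rw [mul_apply']
    show comul (R := k) (f a) = _
    rw [← CoalgHomClass.map_comp_comul_apply f a]
    generalize comul (R := k) a = z
    induction z with
    | zero => simp
    | add x y hx hy => simp only [map_add, hx, hy]
    | tmul x y => simp [post]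
  · rw [one_apply']
    show counit (R := k) (f a) = _
    exact CoalgHomClass.counit_comp_apply f a

theorem IsOnePS.conj {p : WithConv (A →ₐ[k] k[T;T⁻¹])} (h : IsOnePS p) (u : WithConv (A →ₐ[k] k)) :
    IsOnePS (cst _ u * p * (cst _ u)⁻¹) := by
  refine ⟨?_, ?_⟩
  · simp only [map_mul, map_inv, post_cst, h.1]
    exact conj_mul.symm
  · simp only [map_mul, map_inv, post_cst, h.2]
    group

theorem IsOnePS.inv {p : WithConv (A →ₐ[k] k[T;T⁻¹])} (h : IsOnePS p) : IsOnePS p⁻¹ := by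
  refine ⟨?_, ?_⟩
  · have hsw : (Algebra.TensorProduct.comm k k[T;T⁻¹] k[T;T⁻¹]).toAlgHom.comp (Bialgebra.comulAlgHom k k[T;T⁻¹]) =
        Bialgebra.comulAlgHom k k[T;T⁻¹] := by
      refine AlgHom.ext fun x => ?_
      exact Coalgebra.comm_comul (R := k) x
    have h2 := congrArg (post (Algebra.TensorProduct.comm k k[T;T⁻¹] k[T;T⁻¹]).toAlgHom) h.1
    have hpc : ∀ {R R' R'' : Type u} [CommRing R] [Algebra k R] [CommRing R'] [Algebra k R'] [CommRing R''] [Algebra k R'']
        (ψ : R' →ₐ[k] R'') (ψ' : R →ₐ[k] R') (q : WithConv (A →ₐ[k] R)), post ψ (post ψ' q) = post (ψ.comp ψ') q :=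
      fun _ _ _ => rfl
    have hl : (Algebra.TensorProduct.comm k k[T;T⁻¹] k[T;T⁻¹]).toAlgHom.comp
        (Algebra.TensorProduct.includeLeft : _ →ₐ[k] k[T;T⁻¹] ⊗[k] k[T;T⁻¹]) = Algebra.TensorProduct.includeRight :=
      AlgHom.ext fun x => by simp
    have hr : (Algebra.TensorProduct.comm k k[T;T⁻¹] k[T;T⁻¹]).toAlgHom.comp
        (Algebra.TensorProduct.includeRight : _ →ₐ[k] k[T;T⁻¹] ⊗[k] k[T;T⁻¹]) = Algebra.TensorProduct.includeLeft :=
      AlgHom.ext fun x => by simp
    rw [hpc, hsw, map_mul, hpc, hpc, hl, hr] at h2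
    rw [map_inv, map_inv, map_inv, h2, mul_inv_rev]
  · rw [map_inv, h.2, inv_one]

theorem IsOnePS.exists_bialgHom {p : WithConv (A →ₐ[k] k[T;T⁻¹])} (h : IsOnePS p) :
    ∃ f : A →ₐc[k] k[T;T⁻¹], ∀ a, f a = p.ofConv a := by
  refine ⟨BialgHom.ofAlgHom p.ofConv (AlgHom.ext fun a => ?_) (AlgHom.ext fun a => ?_), fun a => rfl⟩
  · have := congrArg (fun q : WithConv (A →ₐ[k] k) => q.ofConv a) h.2
    simpa [one_apply', post_apply] using this
  · have := congrArg (fun q : WithConv (A →ₐ[k] k[T;T⁻¹] ⊗[k] k[T;T⁻¹]) => q.ofConv a) h.1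
    simp only [post_apply, mul_apply'] at this
    exact ((lf_includes _ _).symm.trans this.symm)

section Linear

variable {ι : Type u} [Fintype ι] [HopfRep.Comod k A (MvPolynomial ι k)] [GLin.IsCoactAlg k A (MvPolynomial ι k)]

/-- the coordinates of the orbit -/
abbrev oc (v : ι → k) (i : ι) : A := GLin.orbitHom k A (GLin.vecPt k ι v) (MvPolynomial.X i)

theorem oc_eq {v : ι → k} {M : ι → ι → A}
    (hM : ∀ i, HopfRep.Comod.coact (k := k) (A := A) (MvPolynomial.X i : MvPolynomial ι k) =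
      ∑ j, (MvPolynomial.X j : MvPolynomial ι k) ⊗ₜ[k] M i j) (i : ι) :
    oc (k := k) (A := A) v i = ∑ j, v j • M i j := by
  simp [oc, GLin.orbitHom, GLin.vecPt, hM]

theorem comul_oc {v : ι → k} {M : ι → ι → A}
    (hM : ∀ i, HopfRep.Comod.coact (k := k) (A := A) (MvPolynomial.X i : MvPolynomial ι k) =
      ∑ j, (MvPolynomial.X j : MvPolynomial ι k) ⊗ₜ[k] M i j) (i : ι) :
    comul (R := k) (oc (k := k) (A := A) v i) = ∑ j, oc (k := k) (A := A) v j ⊗ₜ[k] M i j := by
  have hca := Groth.Agent.HopfLib.coassoc_apply (k := k) (A := A) (MvPolynomial.X i : MvPolynomial ι k)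
  rw [hM, map_sum, map_sum, map_sum] at hca
  simp only [LinearMap.rTensor_tmul, LinearMap.lTensor_tmul, hM, TensorProduct.sum_tmul, map_sum,
    TensorProduct.assoc_tmul] at hca
  have h2 := congrArg ((TensorProduct.lid k (A ⊗[k] A)).toLinearMap ∘ₗ
    (GLin.vecPt k ι v).toLinearMap.rTensor (A ⊗[k] A)) hca
  simp only [map_sum, LinearMap.coe_comp, LinearEquiv.coe_coe, Function.comp_apply, LinearMap.rTensor_tmul,
    TensorProduct.lid_tmul, AlgHom.toLinearMap_apply, GLin.vecPt, MvPolynomial.aeval_X] at h2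
  simp only [oc_eq hM, map_sum, map_smul, TensorProduct.sum_tmul, ← TensorProduct.smul_tmul']
  exact h2.symm

theorem mul_oc {R : Type u} [CommRing R] [Algebra k R] (p q : WithConv (A →ₐ[k] R)) {v : ι → k} {M : ι → ι → A}
    (hM : ∀ i, HopfRep.Comod.coact (k := k) (A := A) (MvPolynomial.X i : MvPolynomial ι k) =
      ∑ j, (MvPolynomial.X j : MvPolynomial ι k) ⊗ₜ[k] M i j) (i : ι) :
    (p * q).ofConv (oc (k := k) (A := A) v i) = ∑ j, p.ofConv (oc (k := k) (A := A) v j) * q.ofConv (M i j) := by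
  rw [mul_apply', comul_oc hM, map_sum]
  simp

theorem counit_oc (v : ι → k) (i : ι) : counit (R := k) (oc (k := k) (A := A) v i) = v i := by
  rw [oc, Groth.Agent.HopfLib.counit_orbitHom]
  simp [GLin.vecPt]

theorem not_comp_eq_zero {v : ι → k} (hv : v ≠ 0) (hlin : GLin.IsLinear k A ι) (g : A →ₐ[k] k) :
    g.comp (GLin.orbitHom k A (GLin.vecPt k ι v)) ≠ GLin.vecPt k ι fun _ => (0 : k) := by
  choose M hM using hlin
  intro h
  refine hv (funext fun i => ?_)
  have h1 : ((toConv g) * (toConv g)⁻¹).ofConv (oc (k := k) (A := A) v i) = 0 := by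
    rw [mul_oc _ _ hM]
    refine Finset.sum_eq_zero fun j _ => ?_
    rw [show (toConv g).ofConv (oc (k := k) (A := A) v j) = 0 from
      (DFunLike.congr_fun h (MvPolynomial.X j)).trans (by simp [GLin.vecPt]), zero_mul]
  rw [mul_inv_cancel, one_apply', counit_oc] at h1
  exact h1

/-- A curve in the orbit tending to the origin gives a destabilising one-parameter subgroup. -/
theorem exists_onePS_of_curve [IsAlgClosed k] [CharZero k] [Algebra.FiniteType k A]
    (hG : HopfRep.IsLinearlyReductive k A) (hlin : GLin.IsLinear k A ι) {v : ι → k}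
    (D : Curve k A) (hD : ∀ i, HopfAlgebraStruct.antipode k (oc (k := k) (A := A) v i) ∈ D.F 1) :
    ∃ lam : A →ₐc[k] k[T;T⁻¹], ∀ i, ∀ e < (1 : ℤ), (lam (oc (k := k) (A := A) v i)).coeff e = 0 := by
  choose M hM using hlin
  obtain ⟨lam, g, hlg⟩ := D.exists_lift hG
  let L := toConv (lam : A →ₐ[k] k[T;T⁻¹])
  let G := cst (k[T;T⁻¹]) (toConv g)
  obtain ⟨f, hf⟩ := ((isOnePS_bialgHom lam).inv.conj ((toConv g)⁻¹)).exists_bialgHom
  refine ⟨f, fun i e he => ?_⟩
  have hfX : cst (k[T;T⁻¹]) (toConv g)⁻¹ * L⁻¹ * (cst (k[T;T⁻¹]) (toConv g)⁻¹)⁻¹ = (L * G)⁻¹ * G := by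
    simp only [G, map_inv]
    group
  rw [hf, hfX, mul_oc _ _ hM, AddMonoidAlgebra.coeff_sum, Finsupp.finsetSum_apply]
  refine Finset.sum_eq_zero fun j _ => ?_
  rw [show G.ofConv (M i j) = algebraMap k k[T;T⁻¹] (g (M i j)) from cst_apply _ _, mul_comm,
    ← Algebra.smul_def, AddMonoidAlgebra.coeff_smul, Finsupp.smul_apply]
  refine (congrArg _ ?_).trans (smul_zero _)
  rw [inv_apply, mul_apply']
  refine Eq.trans ?_ (hlg 1 _ (hD j) e he)
  refine congrArg (fun z : k[T;T⁻¹] => z.coeff e) ?_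
  generalize comul (R := k) (HopfAlgebraStruct.antipode k (oc (k := k) (A := A) v j)) = z
  induction z with
  | zero => simp
  | add x y hx hy => simp only [map_add, hx, hy]
  | tmul x y => simp [G, L, cst_apply, Algebra.smul_def, mul_comm]

theorem exists_curve [IsAlgClosed k] [Algebra.FiniteType k A] (hlin : GLin.IsLinear k A ι) {v : ι → k} (hv : v ≠ 0)
    (h0 : GLin.InOrbitClosure k A (GLin.vecPt k ι v) (GLin.vecPt k ι fun _ => (0 : k))) :
    ∃ D : Curve k A, ∀ i, HopfAlgebraStruct.antipode k (oc (k := k) (A := A) v i) ∈ D.F 1 := by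
  classical
  obtain ⟨O, L, _, _, _, _, _, _, _, _, _, ϖ, hϖ, res, h, ho⟩ :=
    exists_curve_of_ker_le (GLin.orbitHom k A (GLin.vecPt k ι v)) _ h0 (not_comp_eq_zero hv hlin)
  choose M hM using hlin
  choose o hoi using fun i => ho (MvPolynomial.X i) (by simp [GLin.vecPt])
  let D : Curve k A :=
    { O := O, L := L, ϖ := ϖ, irr := hϖ, res := res, h := h.comp (HopfAlgebra.antipodeAlgHom k A) }
  refine ⟨D, fun i => ?_⟩
  let S := HopfAlgebraStruct.antipode k (A := A)
  refine ⟨S (oc (k := k) (A := A) v i) ⊗ₜ[k] (1 : D.O), ∑ j, S (M i j) ⊗ₜ[k] (o j : D.O), by simp [S], ?_⟩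
  let iA : WithConv (A →ₐ[k] A ⊗[k] D.L) := toConv Algebra.TensorProduct.includeLeft
  let jh : WithConv (A →ₐ[k] A ⊗[k] D.L) :=
    toConv ((Algebra.TensorProduct.includeRight : D.L →ₐ[k] A ⊗[k] D.L).comp D.h)
  have hρ : ∀ a, D.ρ (a ⊗ₜ[k] (1 : D.L)) = (iA * jh).ofConv a := fun a => by
    rw [Curve.ρ_tmul, ← Algebra.TensorProduct.one_def, mul_one, mul_apply']
    generalize comul (R := k) a = z
    induction z with
    | zero => simp
    | add x y hx hy => simp only [map_add, hx, hy]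
    | tmul x y => simp [iA, jh]
  have hinv : ∀ j, (jh⁻¹).ofConv (oc (k := k) (A := A) v j) =
      (1 : A) ⊗ₜ[k] (algebraMap D.O D.L (D.ϖ * o j)) := fun j => by
    show (1 : A) ⊗ₜ[k] h (HopfAlgebraStruct.antipode k (HopfAlgebraStruct.antipode k (oc (k := k) (A := A) v j))) = _
    rw [antipode_antipode]
    exact congrArg _ (hoi j)
  rw [Curve.incl_tmul, map_one, hρ, ← inv_apply, mul_inv_rev, mul_oc _ _ hM, map_sum, Finset.mul_sum]
  refine Finset.sum_congr rfl fun j _ => ?_
  rw [hinv, inv_apply]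
  show _ * (S (M i j) ⊗ₜ[k] (1 : D.L)) = _
  simp [Curve.up, S]

/-- semistability in terms of one-parameter subgroups -/
theorem isSemistableVec_iff [IsAlgClosed k] [CharZero k] [Algebra.FiniteType k A]
    (hG : HopfRep.IsLinearlyReductive k A) (hlin : GLin.IsLinear k A ι) {v : ι → k} (hv : v ≠ 0)
    (hss : GLin.IsSemistableVec k A v ↔
      ¬ GLin.InOrbitClosure k A (GLin.vecPt k ι v) (GLin.vecPt k ι fun _ => (0 : k))) :
    GLin.IsSemistableVec k A v ↔
      ∀ (lam : A →ₐc[k] k[T;T⁻¹]) (m : ℤ), GLin.IsMu k A lam v m → 0 ≤ m := by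
  rw [hss]
  constructor
  · rintro hno lam m ⟨p, hp, -⟩
    by_contra hm
    refine hno fun F hF => ?_
    let h' : MvPolynomial ι k →ₐ[k] Polynomial k :=
      MvPolynomial.aeval fun i => Polynomial.X ^ (-m).toNat * p (MvPolynomial.X i)
    have hh : (Polynomial.toLaurentAlg (R := k)).comp h' = GLin.lamOrbit k A lam (GLin.vecPt k ι v) := by
      refine MvPolynomial.algHom_ext fun i => ?_
      have hpi : Polynomial.toLaurent (p (MvPolynomial.X i)) =
          T m * GLin.lamOrbit k A lam (GLin.vecPt k ι v) (MvPolynomial.X i) :=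
        (DFunLike.congr_fun hp (MvPolynomial.X i)).trans (by simp [GLin.shiftedOrbit])
      simp only [h', AlgHom.comp_apply, MvPolynomial.aeval_X, Polynomial.toLaurentAlg_apply, map_mul,
        Polynomial.toLaurent_X_pow, hpi]
      rw [← mul_assoc, ← T_add, Int.toNat_of_nonneg (by omega), neg_add_cancel, T_zero, one_mul]
    have hF' : GLin.orbitHom k A (GLin.vecPt k ι v) F = 0 := hF
    have h0 : h' F = 0 := Polynomial.toLaurent_injective (by
      refine (DFunLike.congr_fun hh F).trans ?_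
      show (lam : A →ₐ[k] k[T;T⁻¹]) (GLin.orbitHom k A (GLin.vecPt k ι v) F) = _
      rw [hF', map_zero, map_zero])
    have hz : ((Polynomial.aeval (0 : k)).comp h') = GLin.vecPt k ι fun _ => (0 : k) := by
      refine MvPolynomial.algHom_ext fun i => ?_
      simp [h', GLin.vecPt, show (-m).toNat ≠ 0 by omega]
    refine RingHom.mem_ker.2 ?_
    rw [← hz, AlgHom.comp_apply, h0, map_zero]
  · intro hall hin
    obtain ⟨D, hD⟩ := exists_curve hlin hv hin
    obtain ⟨lam, hlam⟩ := exists_onePS_of_curve hG hlin D hD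
    obtain ⟨m, hm, -⟩ := S12544.result k A ι hlin lam v hv
    have hm0 := hall lam m hm
    obtain ⟨p, hp, hne⟩ := hm
    refine hne (MvPolynomial.algHom_ext fun i => ?_)
    have hpi : Polynomial.toLaurent (p (MvPolynomial.X i)) = T m * lam (oc (k := k) (A := A) v i) :=
      (DFunLike.congr_fun hp (MvPolynomial.X i)).trans (by simp [GLin.shiftedOrbit, GLin.lamOrbit])
    have h00 : (p (MvPolynomial.X i)).coeff 0 = 0 := by
      rw [← S12544.coeff_toLaurent_nat, hpi, S12544.coeff_T_mul]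
      exact hlam i _ (by omega)
    simpa [Polynomial.coeff_zero_eq_eval_zero] using h00

end Linear

end Groth.Agent.HMCrit29
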