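import Groth.Agent.HopfLib.GITStable
import Mathlib.LinearAlgebra.FreeModule.PID
import Mathlib.RingTheory.DiscreteValuationRing.Basic
import Mathlib.RingTheory.Localization.Integer
import Mathlib.LinearAlgebra.Matrix.ToLinearEquiv

/-! # The filtration of the coordinate ring of a group cut out by a point over a discretely valued field -/

set_option autoImplicit false
set_option backward.isDefEq.respectTransparency.types false

noncomputable section

open TensorProduct Matrix
open HopfRep (Comod IsSubcomod)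
open CoalgebraStruct (comul counit)

namespace Groth.Agent.HMCrit29

universe u

section Smith

variable {O : Type u} [CommRing O] [IsDomain O] [IsDiscreteValuationRing O] {L : Type u} [Field L]
  [Algebra O L] [IsFractionRing O L]

theorem exists_smith {ϖ : O} (hϖ : Irreducible ϖ) {N : ℕ} (C : Matrix (Fin N) (Fin N) L) (hC : C.det ≠ 0) :
    ∃ (P P' Q Q' : Matrix (Fin N) (Fin N) O) (d : Fin N → ℤ), P * P' = 1 ∧ P' * P = 1 ∧ Q * Q' = 1 ∧ Q' * Q = 1 ∧
      C * P.map (algebraMap O L) = Q.map (algebraMap O L) * Matrix.diagonal fun j => algebraMap O L ϖ ^ d j := by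
  classical
  obtain ⟨⟨b, hb⟩, hb'⟩ := IsLocalization.exist_integer_multiples (nonZeroDivisors O) (Finset.univ : Finset (Fin N × Fin N))
    (fun p => C p.1 p.2)
  choose C₀ hC₀ using fun p : Fin N × Fin N => hb' p (Finset.mem_univ p)
  let C' : Matrix (Fin N) (Fin N) O := Matrix.of fun i j => C₀ (i, j)
  have hC' : C'.map (algebraMap O L) = algebraMap O L b • C := by
    ext i j
    simpa [C', Algebra.smul_def] using hC₀ (i, j)
  have hb0 : b ≠ 0 := nonZeroDivisors.ne_zero hb
  have hbL : algebraMap O L b ≠ 0 := (map_ne_zero_iff _ (IsFractionRing.injective O L)).2 hb0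
  have hdet : C'.det ≠ 0 := fun h => by
    have := congrArg (algebraMap O L) h
    rw [RingHom.map_det, RingHom.mapMatrix_apply, hC', Matrix.det_smul, map_zero] at this
    exact mul_ne_zero (pow_ne_zero _ hbL) hC this
  let f := Matrix.toLin' C'
  have hf : Function.Injective f := by
    rw [← LinearMap.ker_eq_bot]
    refine (Submodule.eq_bot_iff _).2 fun v hv => ?_
    by_contra hv0
    exact hdet (Matrix.exists_mulVec_eq_zero_iff.1 ⟨v, hv0, by simpa [f, Matrix.toLin'_apply] using hv⟩)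
  obtain ⟨bM, a, bN, ha⟩ := Submodule.exists_smith_normal_form_of_rank_eq (Pi.basisFun O (Fin N))
    (show Module.finrank O (LinearMap.range f) = Module.finrank O (Fin N → O) from LinearMap.finrank_range_of_inj hf)
  let bp := bN.map (LinearEquiv.ofInjective f hf).symm
  have hp : ∀ j, f (bp j) = a j • bM j := fun j => by
    rw [← ha j, ← LinearEquiv.ofInjective_apply (h := hf), Module.Basis.map_apply, LinearEquiv.apply_symm_apply]
  have ha0 : ∀ j, a j ≠ 0 := fun j h => bN.ne_zero j (Subtype.ext (by rw [ha j, h, zero_smul]; rfl))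
  choose n un hn using fun j => IsDiscreteValuationRing.eq_unit_mul_pow_irreducible (ha0 j) hϖ
  obtain ⟨s, us, hs⟩ := IsDiscreteValuationRing.eq_unit_mul_pow_irreducible hb0 hϖ
  let bq := bM.unitsSMul fun j => un j * us⁻¹
  let std := Pi.basisFun O (Fin N)
  refine ⟨std.toMatrix bp, bp.toMatrix std, std.toMatrix bq, bq.toMatrix std, fun j => (n j : ℤ) - s,
    Module.Basis.toMatrix_mul_toMatrix_flip _ _, Module.Basis.toMatrix_mul_toMatrix_flip _ _,
    Module.Basis.toMatrix_mul_toMatrix_flip _ _, Module.Basis.toMatrix_mul_toMatrix_flip _ _, ?_⟩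
  have hϖ0 : algebraMap O L ϖ ≠ 0 := (map_ne_zero_iff _ (IsFractionRing.injective O L)).2 hϖ.ne_zero
  ext i j
  rw [Matrix.mul_diagonal]
  refine mul_left_cancel₀ hbL ?_
  have h1 : (C'.map (algebraMap O L) * (std.toMatrix bp).map (algebraMap O L)) i j =
      algebraMap O L (a j * bM j i) := by
    rw [← Matrix.map_mul, Matrix.map_apply]
    refine congrArg _ ?_
    have := congrFun (hp j) i
    simp only [f, Matrix.toLin'_apply, Pi.smul_apply, smul_eq_mul] at this
    rw [← this]
    simp [Matrix.mul_apply, Matrix.mulVec, dotProduct, std, Module.Basis.toMatrix_apply]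
  rw [hC', Matrix.smul_mul, Matrix.smul_apply, smul_eq_mul] at h1
  rw [h1]
  have h2 : (std.toMatrix bq) i j = (un j : O) * ((us⁻¹ : Oˣ) : O) * bM j i := by
    simp [std, bq, Module.Basis.toMatrix_apply, Module.Basis.unitsSMul_apply, Units.smul_def, mul_assoc]
  have hus : algebraMap O L ((us : O)) * algebraMap O L (((us⁻¹ : Oˣ) : O)) = 1 := by
    rw [← map_mul, Units.mul_inv, map_one]
  rw [Matrix.map_apply, h2, hn j, hs, map_mul, map_mul, map_mul, map_pow, map_mul, map_mul, map_pow, zpow_sub₀ hϖ0,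
    zpow_natCast, zpow_natCast]
  have hinv : algebraMap O L ((us⁻¹ : Oˣ) : O) = (algebraMap O L (us : O))⁻¹ := eq_inv_of_mul_eq_one_right hus
  have hus0 : algebraMap O L (us : O) ≠ 0 := left_ne_zero_of_mul_eq_one hus
  rw [hinv]
  field_simp

end Smith

variable (k : Type u) [Field k] (A : Type u) [CommRing A] [HopfAlgebra k A]

/-- A point of the group over a discretely valued field with residue field `k`. -/
structure Curve where
  O : Type u
  L : Type u
  [ringO : CommRing O]
  [domO : IsDomain O]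
  [dvrO : IsDiscreteValuationRing O]
  [algO : Algebra k O]
  [fieldL : Field L]
  [algOL : Algebra O L]
  [fracL : IsFractionRing O L]
  [algL : Algebra k L]
  [tower : IsScalarTower k O L]
  ϖ : O
  irr : Irreducible ϖ
  res : O →ₐ[k] k
  h : A →ₐ[k] L

attribute [instance] Curve.ringO Curve.domO Curve.dvrO Curve.algO Curve.fieldL Curve.algOL Curve.fracL Curve.algL
  Curve.tower

variable {k} {A}

namespace Curve

variable (D : Curve k A)

theorem res_ϖ : D.res D.ϖ = 0 := by
  have hs : Function.Surjective D.res := fun c => ⟨algebraMap k D.O c, D.res.commutes c⟩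
  have hm : RingHom.ker D.res = IsLocalRing.maximalIdeal D.O :=
    IsLocalRing.eq_maximalIdeal (RingHom.ker_isMaximal_of_surjective D.res hs)
  exact (RingHom.mem_ker).1 (hm ▸ D.irr.maximalIdeal_eq ▸ Ideal.mem_span_singleton_self D.ϖ)

theorem mem_ker_res {o : D.O} (h : D.ϖ ∣ o) : D.res o = 0 := by
  obtain ⟨c, rfl⟩ := h
  rw [map_mul, res_ϖ, zero_mul]

def incl : A ⊗[k] D.O →ₐ[k] A ⊗[k] D.L :=
  Algebra.TensorProduct.map (AlgHom.id k A) (IsScalarTower.toAlgHom k D.O D.L)

def red : A ⊗[k] D.O →ₐ[k] A :=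
  (Algebra.TensorProduct.rid k k A).toAlgHom.comp (Algebra.TensorProduct.map (AlgHom.id k A) D.res)

/-- right translation by the point -/
def ρ : A ⊗[k] D.L →ₐ[k] A ⊗[k] D.L :=
  Algebra.TensorProduct.lift ((Algebra.TensorProduct.map (AlgHom.id k A) D.h).comp (Bialgebra.comulAlgHom k A))
    Algebra.TensorProduct.includeRight fun _ _ => Commute.all _ _

def up (n : ℤ) : A ⊗[k] D.L := 1 ⊗ₜ[k] (algebraMap D.O D.L D.ϖ ^ n)

theorem hϖ0 : algebraMap D.O D.L D.ϖ ≠ 0 :=
  (map_ne_zero_iff _ (IsFractionRing.injective D.O D.L)).2 D.irr.ne_zero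

theorem up_add (m n : ℤ) : D.up (m + n) = D.up m * D.up n := by
  simp only [up, Algebra.TensorProduct.tmul_mul_tmul, one_mul, zpow_add₀ D.hϖ0]

theorem up_zero : D.up 0 = 1 := by simp [up, Algebra.TensorProduct.one_def]

theorem up_natCast (n : ℕ) : D.up n = D.incl (1 ⊗ₜ[k] (D.ϖ ^ n)) := by
  simp [up, incl]

@[simp] theorem incl_tmul (a : A) (o : D.O) : D.incl (a ⊗ₜ[k] o) = a ⊗ₜ[k] algebraMap D.O D.L o := rfl

@[simp] theorem red_tmul (a : A) (o : D.O) : D.red (a ⊗ₜ[k] o) = D.res o • a := by simp [red]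

theorem ρ_tmul (a : A) (l : D.L) :
    D.ρ (a ⊗ₜ[k] l) = Algebra.TensorProduct.map (AlgHom.id k A) D.h (comul (R := k) a) * (1 ⊗ₜ[k] l) := rfl

theorem ρ_up (n : ℤ) : D.ρ (D.up n) = D.up n := by
  simp [up, ρ]

/-- the filtration -/
def F (n : ℤ) : Submodule k A where
  carrier := {a | ∃ (x y : A ⊗[k] D.O), D.red x = a ∧ D.ρ (D.incl x) = D.up n * D.incl y}
  zero_mem' := ⟨0, 0, by simp, by simp⟩
  add_mem' := by
    rintro a b ⟨x, y, rfl, hx⟩ ⟨x', y', rfl, hx'⟩
    exact ⟨x + x', y + y', map_add _ _ _, by rw [map_add, map_add, map_add, mul_add, hx, hx']⟩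
  smul_mem' := by
    rintro c a ⟨x, y, rfl, hx⟩
    exact ⟨c • x, c • y, map_smul _ _ _, by rw [map_smul, map_smul, map_smul, mul_smul_comm, hx]⟩

theorem mul_mem_F {m n : ℤ} {a b : A} (ha : a ∈ D.F m) (hb : b ∈ D.F n) : a * b ∈ D.F (m + n) := by
  obtain ⟨x, y, rfl, hx⟩ := ha
  obtain ⟨x', y', rfl, hx'⟩ := hb
  exact ⟨x * x', y * y', map_mul _ _ _, by rw [map_mul, map_mul, hx, hx', map_mul, up_add]; ring⟩

theorem F_le {m n : ℤ} (h : m ≤ n) : D.F n ≤ D.F m := by
  rintro a ⟨x, y, rfl, hx⟩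
  refine ⟨x, (1 ⊗ₜ[k] (D.ϖ ^ (n - m).toNat)) * y, rfl, ?_⟩
  rw [hx, map_mul, ← up_natCast, ← mul_assoc, ← up_add, Int.toNat_of_nonneg (by omega), add_sub_cancel]

theorem one_mem_F : (1 : A) ∈ D.F 0 :=
  ⟨1, 1, map_one _, by rw [map_one, map_one, up_zero, one_mul]⟩

/-- coordinates along a linear form -/
def coord (φ : A →ₗ[k] k) (R : Type u) [CommRing R] [Algebra k R] : A ⊗[k] R →ₗ[k] R :=
  (TensorProduct.lid k R).toLinearMap ∘ₗ φ.rTensor R

theorem coord_incl (φ : A →ₗ[k] k) (x : A ⊗[k] D.O) :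
    coord φ D.L (D.incl x) = algebraMap D.O D.L (coord φ D.O x) := by
  induction x with
  | zero => simp
  | add x y hx hy => simp only [map_add, hx, hy]
  | tmul a o =>
    simp only [incl_tmul, coord, LinearMap.coe_comp, LinearEquiv.coe_coe, Function.comp_apply,
      LinearMap.rTensor_tmul, TensorProduct.lid_tmul]
    exact (map_smul (IsScalarTower.toAlgHom k D.O D.L) _ _).symm

theorem coord_up_mul (φ : A →ₗ[k] k) (n : ℤ) (x : A ⊗[k] D.L) :
    coord φ D.L (D.up n * x) = algebraMap D.O D.L D.ϖ ^ n * coord φ D.L x := by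
  induction x with
  | zero => simp
  | add x y hx hy => simp only [mul_add, map_add, hx, hy]
  | tmul a o => simp [up, coord]

end Curve

/-- adapted coordinates for a finite subcomodule of the regular comodule -/
structure Frame (D : Curve k A) where
  N : ℕ
  w : Fin N → A
  indep : LinearIndependent k w
  c : Matrix (Fin N) (Fin N) A
  hc : ∀ l, comul (R := k) (w l) = ∑ j, w j ⊗ₜ[k] c j l
  P : Matrix (Fin N) (Fin N) D.O
  P' : Matrix (Fin N) (Fin N) D.O
  Q : Matrix (Fin N) (Fin N) D.O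
  Q' : Matrix (Fin N) (Fin N) D.O
  d : Fin N → ℤ
  hPP' : P * P' = 1
  hP'P : P' * P = 1
  hQQ' : Q * Q' = 1
  hQ'Q : Q' * Q = 1
  hsmith : (c.map D.h) * P.map (algebraMap D.O D.L) =
    Q.map (algebraMap D.O D.L) * Matrix.diagonal fun j => algebraMap D.O D.L D.ϖ ^ d j

section Coeff

variable {N : ℕ} {w : Fin N → A} (hw : LinearIndependent k w) {c : Matrix (Fin N) (Fin N) A}
  (hc : ∀ l, comul (R := k) (w l) = ∑ j, w j ⊗ₜ[k] c j l)

include hw hc in
theorem comul_coeff (i l : Fin N) : comul (R := k) (c i l) = ∑ j, c i j ⊗ₜ[k] c j l := by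
  obtain ⟨φ, hφ⟩ : ∃ φ : A →ₗ[k] k, ∀ j, φ (w j) = if j = i then 1 else 0 := by
    let b := Module.Basis.span hw
    obtain ⟨φ, hφ⟩ := (b.coord i).exists_extend
    refine ⟨φ, fun j => ?_⟩
    have := LinearMap.congr_fun hφ (b j)
    simpa [b, Module.Basis.span_apply, Finsupp.single_apply] using this
  have h := Coalgebra.coassoc_apply (R := k) (w l)
  rw [hc, map_sum, map_sum, map_sum] at h
  simp only [LinearMap.rTensor_tmul, LinearMap.lTensor_tmul, hc, TensorProduct.sum_tmul, map_sum,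
    TensorProduct.assoc_tmul] at h
  have h2 := congrArg ((TensorProduct.lid k (A ⊗[k] A)).toLinearMap ∘ₗ φ.rTensor (A ⊗[k] A)) h
  simp only [map_sum, LinearMap.coe_comp, LinearEquiv.coe_coe, Function.comp_apply, LinearMap.rTensor_tmul,
    TensorProduct.lid_tmul, hφ, ite_smul, one_smul, zero_smul, Finset.sum_ite_eq', Finset.mem_univ, if_true] at h2
  exact h2.symm

include hw hc in
theorem counit_coeff (i l : Fin N) : counit (R := k) (c i l) = (1 : Matrix (Fin N) (Fin N) k) i l := by
  have h := Coalgebra.lTensor_counit_comul (R := k) (w l)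
  rw [hc, map_sum] at h
  simp only [LinearMap.lTensor_tmul] at h
  have h2 := congrArg (TensorProduct.rid k A) h
  simp only [map_sum, TensorProduct.rid_tmul, one_smul] at h2
  have h3 : ∑ j, (counit (R := k) (c j l) - (1 : Matrix (Fin N) (Fin N) k) j l) • w j = 0 := by
    simp [sub_smul, Finset.sum_sub_distrib, h2, Matrix.one_apply, ite_smul]
  exact sub_eq_zero.1 (Fintype.linearIndependent_iff.1 hw _ h3 i)

include hw hc in
theorem antipode_mul_coeff : c.map (HopfAlgebraStruct.antipode k) * c = 1 ∧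
    c * c.map (HopfAlgebraStruct.antipode k) = 1 := by
  have h1 : c.map (HopfAlgebraStruct.antipode k) * c = 1 := by
    ext i l
    have h := HopfAlgebra.mul_antipode_rTensor_comul_apply (R := k) (c i l)
    rw [comul_coeff hw hc, map_sum, map_sum] at h
    simp only [LinearMap.rTensor_tmul, LinearMap.mul'_apply] at h
    rw [Matrix.mul_apply]
    simp only [Matrix.map_apply]
    rw [h, counit_coeff hw hc, Matrix.one_apply, Matrix.one_apply]
    split <;> simp
  exact ⟨h1, mul_eq_one_comm.1 h1⟩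

end Coeff

namespace Frame

variable {D : Curve k A} (Fr : Frame D)

def pb : Matrix (Fin Fr.N) (Fin Fr.N) k := Fr.P.map D.res
def pb' : Matrix (Fin Fr.N) (Fin Fr.N) k := Fr.P'.map D.res

theorem pb_mul : Fr.pb * Fr.pb' = 1 ∧ Fr.pb' * Fr.pb = 1 := by
  simp only [pb, pb', ← Matrix.map_mul, Fr.hPP', Fr.hP'P, and_self]
  exact Matrix.map_one _ (map_zero _) (map_one _)

/-- the adapted basis -/
def e (j : Fin Fr.N) : A := ∑ l, Fr.pb l j • Fr.w l

def cp : Matrix (Fin Fr.N) (Fin Fr.N) A := Fr.c * Fr.pb.map (algebraMap k A)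
def sp : Matrix (Fin Fr.N) (Fin Fr.N) A :=
  Fr.pb'.map (algebraMap k A) * Fr.c.map (HopfAlgebraStruct.antipode k)

theorem sp_mul_cp : Fr.sp * Fr.cp = 1 := by
  rw [sp, cp, Matrix.mul_assoc, ← Matrix.mul_assoc (Fr.c.map _), (antipode_mul_coeff Fr.indep Fr.hc).1,
    Matrix.one_mul, ← Matrix.map_mul, Fr.pb_mul.2]
  exact Matrix.map_one _ (map_zero _) (map_one _)

theorem cp_mem (i j : Fin Fr.N) : Fr.cp i j ∈ D.F (Fr.d j) := by
  refine ⟨∑ l, Fr.c i l ⊗ₜ[k] Fr.P l j, ∑ l, Fr.c i l ⊗ₜ[k] Fr.Q l j, ?_, ?_⟩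
  · simp [cp, pb, Matrix.mul_apply, Algebra.smul_def, mul_comm]
  · simp only [map_sum, Curve.incl_tmul, Curve.ρ_tmul, comul_coeff Fr.indep Fr.hc, Finset.sum_mul,
      Algebra.TensorProduct.map_tmul, Algebra.TensorProduct.tmul_mul_tmul, mul_one, Finset.mul_sum, Curve.up,
      one_mul, AlgHom.coe_id, id_eq]
    rw [Finset.sum_comm]
    refine Finset.sum_congr rfl fun m _ => ?_
    rw [← TensorProduct.tmul_sum]
    congr 1
    have := congrFun (congrFun Fr.hsmith m) j
    rw [Matrix.mul_diagonal] at this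
    simp only [Matrix.mul_apply, Matrix.map_apply] at this
    rw [this, mul_comm]

theorem ρ_coeff (i l : Fin Fr.N) :
    D.ρ (Fr.c i l ⊗ₜ[k] (1 : D.L)) = ∑ j, Fr.c i j ⊗ₜ[k] D.h (Fr.c j l) := by
  simp [Curve.ρ_tmul, comul_coeff Fr.indep Fr.hc, ← Algebra.TensorProduct.one_def]

theorem sp_mem (j i : Fin Fr.N) : Fr.sp j i ∈ D.F (-Fr.d j) := by
  let S := Fr.c.map (HopfAlgebraStruct.antipode k)
  refine ⟨∑ l, S l i ⊗ₜ[k] Fr.P' j l, ∑ l, S l i ⊗ₜ[k] Fr.Q' j l, ?_, ?_⟩
  · simp [sp, S, pb', Matrix.mul_apply, Algebra.smul_def, mul_comm]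
  let iA : A →ₐ[k] A ⊗[k] D.L := Algebra.TensorProduct.includeLeft
  let jL : D.L →ₐ[k] A ⊗[k] D.L := Algebra.TensorProduct.includeRight
  let jO : D.O →ₐ[k] A ⊗[k] D.L := jL.comp (IsScalarTower.toAlgHom k D.O D.L)
  let dg : Matrix (Fin Fr.N) (Fin Fr.N) (A ⊗[k] D.L) := Matrix.diagonal fun j => D.up (Fr.d j)
  let dg' : Matrix (Fin Fr.N) (Fin Fr.N) (A ⊗[k] D.L) := Matrix.diagonal fun j => D.up (-Fr.d j)
  have hρO : (Fr.P.map jO).map D.ρ = Fr.P.map jO ∧ (Fr.P'.map jO).map D.ρ = Fr.P'.map jO := by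
    constructor <;> ext a b <;> simp [jO, jL, Curve.ρ]
  have hc : (Fr.c.map iA).map D.ρ = Fr.c.map iA * (Fr.c.map D.h).map jL := by
    ext a b
    simp [Matrix.mul_apply, iA, jL, ρ_coeff]
  have hCP : (Fr.c.map D.h).map jL * Fr.P.map jO = Fr.Q.map jO * dg := by
    have h := congrArg (fun M : Matrix (Fin Fr.N) (Fin Fr.N) D.L => M.map jL) Fr.hsmith
    simp only [Matrix.map_mul, Matrix.diagonal_map (map_zero jL)] at h
    exact h
  obtain ⟨hS1, hS2⟩ := antipode_mul_coeff Fr.indep Fr.hc
  let Y := (Fr.c.map iA * Fr.P.map jO).map D.ρ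
  let X := (Fr.P'.map jO * S.map iA).map D.ρ
  let Z := dg' * (Fr.Q'.map jO * S.map iA)
  have hY : Y = Fr.c.map iA * (Fr.Q.map jO * dg) := by
    show (Fr.c.map iA * Fr.P.map jO).map D.ρ = _
    rw [Matrix.map_mul, hc, hρO.1, Matrix.mul_assoc, hCP]
  have hone : ∀ (M M' : Matrix (Fin Fr.N) (Fin Fr.N) D.O), M * M' = 1 → M.map jO * M'.map jO = 1 := fun M M' h => by
    rw [← Matrix.map_mul, h]; exact Matrix.map_one _ (map_zero _) (map_one _)
  have hXY : X * Y = 1 := by
    show (Fr.P'.map jO * S.map iA).map D.ρ * (Fr.c.map iA * Fr.P.map jO).map D.ρ = 1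
    rw [← Matrix.map_mul, Matrix.mul_assoc, ← Matrix.mul_assoc (S.map iA), ← Matrix.map_mul (f := iA), hS1,
      Matrix.map_one _ (map_zero _) (map_one _), Matrix.one_mul, hone _ _ Fr.hP'P]
    exact Matrix.map_one _ (map_zero _) (map_one _)
  have hZY : Z * Y = 1 := by
    rw [hY]
    simp only [Z, Matrix.mul_assoc]
    rw [← Matrix.mul_assoc (S.map iA), ← Matrix.map_mul (f := iA), hS1, Matrix.map_one _ (map_zero _) (map_one _),
      Matrix.one_mul, ← Matrix.mul_assoc (Fr.Q'.map jO), hone _ _ Fr.hQ'Q, Matrix.one_mul]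
    simp [dg, dg', Matrix.diagonal_mul_diagonal, ← D.up_add, D.up_zero]
  have hXZ : X = Z := by
    rw [← Matrix.mul_one X, ← (mul_eq_one_comm.1 hZY), ← Matrix.mul_assoc, hXY, Matrix.one_mul]
  have := congrFun (congrFun hXZ j) i
  simp only [X, Z, dg', Matrix.diagonal_mul] at this
  simp only [Matrix.map_apply, Matrix.mul_apply, iA, jO, jL,
    Algebra.TensorProduct.includeLeft_apply, Algebra.TensorProduct.includeRight_apply, AlgHom.comp_apply,
    IsScalarTower.coe_toAlgHom', Algebra.TensorProduct.tmul_mul_tmul, one_mul, mul_one] at this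
  simpa [map_sum] using this

theorem comul_e (j : Fin Fr.N) : comul (R := k) (Fr.e j) = ∑ i, Fr.w i ⊗ₜ[k] Fr.cp i j := by
  simp only [e, map_sum, map_smul, Fr.hc, Finset.smul_sum, cp, Matrix.mul_apply, TensorProduct.tmul_sum]
  rw [Finset.sum_comm]
  refine Finset.sum_congr rfl fun i _ => Finset.sum_congr rfl fun l _ => ?_
  rw [Matrix.map_apply, mul_comm, ← Algebra.smul_def, TensorProduct.tmul_smul]

theorem e_mem (j : Fin Fr.N) : Fr.e j ∈ D.F (Fr.d j) := by
  have h := Coalgebra.rTensor_counit_comul (R := k) (Fr.e j)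
  rw [comul_e, map_sum] at h
  simp only [LinearMap.rTensor_tmul] at h
  have h2 := congrArg (TensorProduct.lid k A) h
  simp only [map_sum, TensorProduct.lid_tmul, one_smul] at h2
  rw [← h2]
  exact sum_mem fun i _ => Submodule.smul_mem _ _ (Fr.cp_mem i j)

theorem w_eq (l : Fin Fr.N) : Fr.w l = ∑ j, Fr.pb' j l • Fr.e j := by
  simp only [e, Finset.smul_sum, smul_smul]
  rw [Finset.sum_comm]
  have h := fun m => congrFun (congrFun Fr.pb_mul.1 m) l
  simp only [Matrix.mul_apply] at h
  simp only [← Finset.sum_smul, mul_comm, h]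
  simp [Matrix.one_apply, ite_smul]

theorem e_indep : LinearIndependent k Fr.e := by
  refine Fintype.linearIndependent_iff.2 fun g hg => ?_
  simp only [e, Finset.smul_sum, smul_smul] at hg
  rw [Finset.sum_comm] at hg
  simp only [← Finset.sum_smul] at hg
  have h := Fintype.linearIndependent_iff.1 Fr.indep _ hg
  have hv : Fr.pb.mulVec g = 0 := funext fun l => by simpa [Matrix.mulVec, dotProduct, mul_comm] using h l
  have := congrArg Fr.pb'.mulVec hv
  rw [Matrix.mulVec_mulVec, Fr.pb_mul.2, Matrix.one_mulVec, Matrix.mulVec_zero] at this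
  exact congrFun this

theorem exists_coord (i : Fin Fr.N) : ∃ φ : A →ₗ[k] k, ∀ j, φ (Fr.w j) = if j = i then 1 else 0 := by
  let b := Module.Basis.span Fr.indep
  obtain ⟨φ, hφ⟩ := (b.coord i).exists_extend
  refine ⟨φ, fun j => ?_⟩
  have := LinearMap.congr_fun hφ (b j)
  simpa [b, Module.Basis.span_apply, Finsupp.single_apply] using this

theorem mem_span_of_mem_F (hG : HopfRep.IsLinearlyReductive k A) {a : A}
    (ha : a ∈ Submodule.span k (Set.range Fr.w)) {n : ℤ} (hn : a ∈ D.F n) :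
    a ∈ Submodule.span k (Fr.e '' {j | n ≤ Fr.d j}) := by
  classical
  obtain ⟨x, y, hx, hρ⟩ := hn
  obtain ⟨s, hs⟩ := TensorProduct.exists_finset x
  obtain ⟨W', hfin, hsub', hW'⟩ := Groth.Agent.HopfLib.exists_finite_subcomod (k := k) (A := A) (V := A)
    (Set.range Fr.w ∪ ↑(s.image Prod.fst)) ((Set.finite_range _).union (Finset.finite_toSet _))
  let W := Submodule.span k (Set.range Fr.w)
  have hW : IsSubcomod (k := k) (A := A) W := by
    intro z hz
    refine Submodule.span_induction (p := fun z _ => Comod.coact (k := k) (A := A) z ∈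
      LinearMap.range (W.subtype.rTensor A)) ?_ (by simp) (fun _ _ _ _ h h' => by rw [map_add]; exact add_mem h h')
      (fun c _ _ h => by rw [map_smul]; exact Submodule.smul_mem _ _ h) hz
    rintro _ ⟨l, rfl⟩
    show comul (R := k) (Fr.w l) ∈ _
    rw [Fr.hc]
    exact sum_mem fun j _ => ⟨⟨Fr.w j, Submodule.subset_span ⟨j, rfl⟩⟩ ⊗ₜ[k] Fr.c j l, rfl⟩
  letI : Comod k A W' := ComodSub.Comod.restr inferInstance W' hW'
  have hhom := ComodSub.isComodHom_subtype (inferInstance : Comod k A A) W' hW'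
  obtain ⟨W'', hW''sub, hcompl⟩ := hG W' hfin (W.comap W'.subtype) (Groth.Agent.HopfLib.isSubcomod_comap hhom hW)
  obtain ⟨r, hr⟩ := (W'.subtype ∘ₗ (W.comap W'.subtype).subtype ∘ₗ
    Submodule.projectionOnto (W.comap W'.subtype) W'' hcompl).exists_extend
  have hWle : W ≤ W' := Submodule.span_le.2 fun z hz => hsub' (Or.inl hz)
  have hrW : ∀ z ∈ W, r z = z := fun z hz => by
    have := LinearMap.congr_fun hr ⟨z, hWle hz⟩
    simp only [LinearMap.coe_comp, Function.comp_apply, Submodule.subtype_apply] at this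
    rw [this, Submodule.projectionOnto_apply_of_mem_left hcompl (show (⟨z, hWle hz⟩ : W') ∈ W.comap W'.subtype from hz)]
  have hr0 : ∀ z : W', z ∈ W'' → r z = 0 := fun z hz => by
    have := LinearMap.congr_fun hr z
    simp only [LinearMap.coe_comp, Function.comp_apply, Submodule.subtype_apply] at this
    rw [this, Submodule.projectionOnto_apply_of_mem_right hcompl hz]
    rfl
  have hmem : ∀ z ∈ W', r z ∈ W := fun z hz => by
    have := LinearMap.congr_fun hr ⟨z, hz⟩
    simp only [LinearMap.coe_comp, Function.comp_apply, Submodule.subtype_apply] at this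
    rw [this]
    exact (Submodule.projectionOnto (W.comap W'.subtype) W'' hcompl ⟨z, hz⟩).2
  have hcomm : ∀ z ∈ W', r.rTensor A (comul (R := k) z) = comul (R := k) (r z) := by
    intro z hz
    obtain ⟨u, hu, v, hv, huv⟩ := Submodule.mem_sup.1
      (show (⟨z, hz⟩ : W') ∈ W.comap W'.subtype ⊔ W'' from hcompl.sup_eq_top ▸ Submodule.mem_top)
    have hz' : z = (u : A) + (v : A) := (congrArg Subtype.val huv).symm
    rw [hz', map_add, map_add, map_add, map_add, hrW (u : A) hu, hr0 v hv, map_zero, add_zero (comul (R := k) (u : A))]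
    have e1 : r.rTensor A (comul (R := k) (u : A)) = comul (R := k) (u : A) := by
      obtain ⟨t, ht⟩ := hW _ hu
      have ht' : comul (R := k) (u : A) = W.subtype.rTensor A t := ht.symm
      rw [ht']
      clear ht ht'
      induction t using TensorProduct.induction_on with
      | zero => simp
      | add a b ha hb => simp only [map_add, ha, hb]
      | tmul a b => simp only [LinearMap.rTensor_tmul, Submodule.subtype_apply, hrW _ a.2]
    have e2 : r.rTensor A (comul (R := k) (v : A)) = 0 := by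
      obtain ⟨t, ht⟩ := Groth.Agent.HopfLib.isSubcomod_map hhom hW''sub (v : A) ⟨v, hv, rfl⟩
      have ht' : comul (R := k) (v : A) = (W''.map W'.subtype).subtype.rTensor A t := ht.symm
      rw [ht']
      clear ht ht'
      induction t using TensorProduct.induction_on with
      | zero => simp
      | add a b ha hb => simp only [map_add, ha, hb, add_zero]
      | tmul a b =>
        obtain ⟨a', ha', hae⟩ := a.2
        simp only [LinearMap.rTensor_tmul, Submodule.subtype_apply, ← hae, hr0 a' ha', TensorProduct.zero_tmul]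
    rw [e1, e2, add_zero]
  have hxW : ∀ p ∈ s, p.1 ∈ W' := fun p hp => hsub' (Or.inr (Finset.mem_coe.2 (Finset.mem_image_of_mem _ hp)))
  let x' := r.rTensor D.O x
  let y' := r.rTensor D.O y
  have hmulR : ∀ (R : Type u) [CommRing R] [Algebra k R] (t : A ⊗[k] R) (o : R),
      r.rTensor R (t * (1 ⊗ₜ[k] o)) = r.rTensor R t * (1 ⊗ₜ[k] o) := fun R _ _ t o => by
    induction t with
    | zero => simp
    | add a b ha hb => simp only [add_mul, map_add, ha, hb]
    | tmul a b => simp
  have hinclr : ∀ t : A ⊗[k] D.O, r.rTensor D.L (D.incl t) = D.incl (r.rTensor D.O t) := fun t => by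
    induction t with
    | zero => simp
    | add a b ha hb => simp only [map_add, ha, hb]
    | tmul a b => simp
  have hρr : D.ρ (D.incl x') = D.up n * D.incl y' := by
    rw [← hinclr y, ← mul_comm (r.rTensor D.L _), Curve.up, ← hmulR, mul_comm (D.incl y)]
    refine Eq.trans ?_ (congrArg (r.rTensor D.L) hρ)
    rw [show x' = r.rTensor D.O x from rfl, hs]
    simp only [map_sum, LinearMap.rTensor_tmul, Curve.incl_tmul, Curve.ρ_tmul]
    refine Finset.sum_congr rfl fun p hp => ?_
    rw [hmulR, ← hcomm _ (hxW p hp)]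
    generalize comul (R := k) p.1 = t
    induction t using TensorProduct.induction_on with
    | zero => simp
    | add a b ha hb => simp only [map_add, add_mul, ha, hb]
    | tmul a b => simp
  have hredr : D.red x' = a := by
    rw [show x' = r.rTensor D.O x from rfl, ← hrW a ha, ← hx, hs]
    simp [map_sum]
  obtain ⟨β, hβ⟩ : ∃ β : Fin Fr.N → D.O, x' = ∑ l, Fr.w l ⊗ₜ[k] β l := by
    choose f hf using fun p : s => (Submodule.mem_span_range_iff_exists_fun k).1 (hmem _ (hxW p.1 p.2))
    refine ⟨fun l => ∑ p : s, f p l • p.1.2, ?_⟩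
    rw [show x' = r.rTensor D.O x from rfl, hs, map_sum, ← Finset.sum_coe_sort]
    simp only [LinearMap.rTensor_tmul, ← hf, TensorProduct.sum_tmul, TensorProduct.tmul_sum, TensorProduct.tmul_smul,
      TensorProduct.smul_tmul']
    exact Finset.sum_comm
  choose φ hφ using Fr.exists_coord
  let γ : Fin Fr.N → D.O := fun m => Curve.coord (φ m) D.O y'
  have hC : (Fr.c.map D.h).mulVec (fun l => algebraMap D.O D.L (β l)) =
      algebraMap D.O D.L D.ϖ ^ n • fun m => algebraMap D.O D.L (γ m) := by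
    funext m
    have h1 := congrArg (Curve.coord (φ m) D.L) hρr
    rw [Curve.coord_up_mul, Curve.coord_incl, hβ] at h1
    simp only [map_sum, Curve.incl_tmul, Curve.ρ_tmul, Fr.hc, Algebra.TensorProduct.map_tmul, Finset.sum_mul,
      Algebra.TensorProduct.tmul_mul_tmul, mul_one, Curve.coord, LinearMap.coe_comp, LinearEquiv.coe_coe,
      Function.comp_apply, LinearMap.rTensor_tmul, TensorProduct.lid_tmul, AlgHom.coe_id, id_eq, hφ, ite_smul,
      one_smul, zero_smul, Finset.sum_ite_eq', Finset.mem_univ, if_true] at h1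
    simpa [Matrix.mulVec, dotProduct, γ, Curve.coord] using h1
  let α := Fr.P'.mulVec β
  have hmv : ∀ (M : Matrix (Fin Fr.N) (Fin Fr.N) D.O) (v : Fin Fr.N → D.O),
      (M.map (algebraMap D.O D.L)).mulVec (fun l => algebraMap D.O D.L (v l)) =
        fun m => algebraMap D.O D.L (M.mulVec v m) := fun M v =>
    funext fun m => (RingHom.map_mulVec (algebraMap D.O D.L) M v m).symm
  have hα : ∀ j, algebraMap D.O D.L D.ϖ ^ Fr.d j * algebraMap D.O D.L (α j) =
      algebraMap D.O D.L D.ϖ ^ n * algebraMap D.O D.L (Fr.Q'.mulVec γ j) := by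
    intro j
    have hβα : β = Fr.P.mulVec α := by rw [Matrix.mulVec_mulVec, Fr.hPP', Matrix.one_mulVec]
    rw [hβα, ← hmv, Matrix.mulVec_mulVec, Fr.hsmith, ← Matrix.mulVec_mulVec] at hC
    have h2 := congrArg (Fr.Q'.map (algebraMap D.O D.L)).mulVec hC
    rw [Matrix.mulVec_mulVec, ← Matrix.map_mul, Fr.hQ'Q, Matrix.map_one _ (map_zero _) (map_one _),
      Matrix.one_mulVec, Matrix.mulVec_smul, hmv] at h2
    simpa [Matrix.mulVec_diagonal] using congrFun h2 j
  have hsmall : ∀ j, Fr.d j < n → D.res (α j) = 0 := fun j hj => by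
    refine D.mem_ker_res ⟨D.ϖ ^ (n - Fr.d j - 1).toNat * Fr.Q'.mulVec γ j, IsFractionRing.injective D.O D.L ?_⟩
    refine mul_left_cancel₀ (zpow_ne_zero (Fr.d j) D.hϖ0) ?_
    rw [hα j, map_mul, map_mul, map_pow, ← zpow_natCast, ← mul_assoc, ← mul_assoc,
      ← zpow_add_one₀ D.hϖ0, ← zpow_add₀ D.hϖ0, Int.toNat_of_nonneg (by omega)]
    congr 2
    ring
  have hae : a = ∑ j, D.res (α j) • Fr.e j := by
    rw [← hredr, hβ]
    have hβα : β = Fr.P.mulVec α := by rw [Matrix.mulVec_mulVec, Fr.hPP', Matrix.one_mulVec]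
    simp only [map_sum, Curve.red_tmul, e, Finset.smul_sum, smul_smul]
    rw [Finset.sum_comm]
    refine Finset.sum_congr rfl fun l _ => ?_
    rw [← Finset.sum_smul, hβα]
    simp [Matrix.mulVec, dotProduct, pb, mul_comm]
  rw [hae]
  refine sum_mem fun j _ => ?_
  by_cases hj : n ≤ Fr.d j
  · exact Submodule.smul_mem _ _ (Submodule.subset_span ⟨j, hj, rfl⟩)
  · rw [hsmall j (not_le.1 hj), zero_smul]; exact zero_mem _

/-- every finite set sits in a frame -/
theorem exists_frame (D : Curve k A) {s : Set A} (hs : s.Finite) :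
    ∃ Fr : Frame D, s ⊆ Submodule.span k (Set.range Fr.w) := by
  obtain ⟨W, hfin, hsW, hW⟩ := Groth.Agent.HopfLib.exists_finite_subcomod (k := k) (A := A) (V := A) s hs
  let b := Module.finBasis k W
  choose t ht using fun l => hW _ (b l).2
  let w : Fin (Module.finrank k W) → A := fun l => (b l : A)
  have hw : LinearIndependent k w := b.linearIndependent.map' W.subtype (Submodule.ker_subtype W)
  let c : Matrix (Fin (Module.finrank k W)) (Fin (Module.finrank k W)) A :=
    Matrix.of fun j l => TensorProduct.equivFinsuppOfBasisLeft b (t l) j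
  have hc : ∀ l, comul (R := k) (w l) = ∑ j, w j ⊗ₜ[k] c j l := fun l => by
    have h1 : t l = ∑ j, b j ⊗ₜ[k] c j l := by
      conv_lhs => rw [← (TensorProduct.equivFinsuppOfBasisLeft b).symm_apply_apply (t l)]
      rw [TensorProduct.equivFinsuppOfBasisLeft_symm_apply, Finsupp.sum_fintype _ _ (by simp)]
      rfl
    have h2 := ht l
    rw [h1, map_sum] at h2
    exact h2.symm
  have hdet : (c.map D.h).det ≠ 0 := by
    intro h0
    have := congrArg (fun M => (M.map D.h).det) (antipode_mul_coeff hw hc).1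
    simp only [Matrix.map_mul, Matrix.det_mul, h0, mul_zero, Matrix.map_one _ (map_zero D.h) (map_one D.h),
      Matrix.det_one] at this
    exact zero_ne_one this
  obtain ⟨P, P', Q, Q', d, h1, h2, h3, h4, h5⟩ := exists_smith D.irr (c.map D.h) hdet
  refine ⟨⟨_, w, hw, c, hc, P, P', Q, Q', d, h1, h2, h3, h4, h5⟩, fun z hz => ?_⟩
  rw [show Set.range w = W.subtype '' Set.range b by rw [← Set.range_comp]; rfl, Submodule.span_image, b.span_eq,
    Submodule.map_top, Submodule.range_subtype]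
  exact hsW hz

end Frame

end Groth.Agent.HMCrit29
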