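import Groth.Agent.HopfLib.GITPoints
import Groth.Agent.AlgSpLib.SmoothRegular
import Groth.Agent.CommAlg6.QuotRegular

/-! # Points of the attracting set in a graded algebra with regular fibre -/

set_option autoImplicit false
set_option backward.isDefEq.respectTransparency.types false

noncomputable section

open IsLocalRing

namespace Groth.Agent.HMCrit29

universe u

theorem notMem_sq_of_regular_quotient {R : Type u} [CommRing R] [IsLocalRing R] [IsNoetherianRing R] {x : R}
    (hx : x ∈ maximalIdeal R) (hreg : IsSMulRegular R x) [IsRegularLocalRing (R ⧸ Ideal.span {x})] :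
    x ∉ maximalIdeal R ^ 2 := by
  classical
  intro hx2
  haveI := CAlgH3.isRegularLocalRing_of_quotient hx hreg
  obtain ⟨s, hcard, hs⟩ :=
    (IsNoetherian.noetherian (maximalIdeal (R ⧸ Ideal.span {x}))).exists_span_finset_card_eq_spanFinrank
  let t : Finset R := s.image (Function.surjInv Ideal.Quotient.mk_surjective)
  have hle : maximalIdeal R ≤ Ideal.span (t : Set R) := by
    refine Submodule.le_of_le_smul_of_le_jacobson_bot (IsNoetherian.noetherian _)
      (maximalIdeal_le_jacobson _) ?_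
    intro z hz
    have hz' : Ideal.Quotient.mk (Ideal.span {x}) z ∈ (Ideal.span (t : Set R)).map (Ideal.Quotient.mk _) := by
      rw [Ideal.map_span, Finset.coe_image, ← Set.image_comp]
      have hid : (Ideal.Quotient.mk (Ideal.span {x})) ∘ Function.surjInv Ideal.Quotient.mk_surjective = id :=
        funext fun w => Function.surjInv_eq Ideal.Quotient.mk_surjective w
      rw [hid]
      rw [show Ideal.span (id '' (s : Set (R ⧸ Ideal.span {x}))) = maximalIdeal _ from (by rw [Set.image_id]; exact hs)]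
      have hsurj : Function.Surjective (Ideal.Quotient.mk (Ideal.span {x})) := Ideal.Quotient.mk_surjective
      haveI := IsLocalHom.of_surjective _ hsurj
      exact map_nonunit (Ideal.Quotient.mk (Ideal.span {x})) z hz
    obtain ⟨w, hw, hwz⟩ := (Ideal.mem_map_iff_of_surjective _ Ideal.Quotient.mk_surjective).1 hz'
    have hd : z - w ∈ Ideal.span {x} := Ideal.Quotient.eq.1 hwz.symm
    rw [smul_eq_mul, ← pow_two]
    exact Submodule.mem_sup.2 ⟨w, hw, z - w, (Ideal.span_singleton_le_iff_mem _).2 hx2 hd, add_sub_cancel _ _⟩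
  have ht : Ideal.span (t : Set R) ≤ maximalIdeal R := by
    refine Ideal.span_le.2 fun z hz => ?_
    obtain ⟨w, hw, rfl⟩ := Finset.mem_image.1 hz
    refine (mem_maximalIdeal _).2 fun hu => ?_
    have h1 : w ∈ maximalIdeal (R ⧸ Ideal.span {x}) := hs ▸ Ideal.subset_span hw
    exact (mem_maximalIdeal _).1 h1 (Function.surjInv_eq Ideal.Quotient.mk_surjective w ▸ hu.map _)
  have h1 : (maximalIdeal R).spanFinrank ≤ (maximalIdeal (R ⧸ Ideal.span {x})).spanFinrank := by
    rw [le_antisymm hle ht]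
    refine (Submodule.spanFinrank_span_le_ncard_of_finite (Finset.finite_toSet _)).trans ?_
    rw [Set.ncard_coe_finset, ← hcard]
    exact Finset.card_image_le
  have h2 := ringKrullDim_quotient_span_singleton_succ_eq_ringKrullDim hreg hx
  rw [← IsRegularLocalRing.spanFinrank_maximalIdeal (R := R ⧸ Ideal.span {x}),
    ← IsRegularLocalRing.spanFinrank_maximalIdeal (R := R)] at h2
  have h3 : (maximalIdeal (R ⧸ Ideal.span {x})).spanFinrank + 1 = (maximalIdeal R).spanFinrank := by exact_mod_cast h2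
  omega


theorem exists_point_attracting {k : Type u} [Field k] [IsAlgClosed k] {R : Type u} [CommRing R] [Algebra k R]
    [Algebra.FiniteType k R] (H : ℤ → Submodule k R) (π : ℤ → R →ₗ[k] R) (y : R →ₐ[k] k) (τ : R)
    (hmul : ∀ {e f : ℤ} {r s : R}, r ∈ H e → s ∈ H f → r * s ∈ H (e + f))
    (htop : ∀ r, r ∈ ⨆ e, H e) (hπH : ∀ e r, π e r ∈ H e)
    (hπmem : ∀ e f r, r ∈ H f → π e r = if f = e then r else 0)
    (hvan : ∀ e, e ≠ 0 → ∀ r ∈ H e, y r = 0) (hτ : τ ∈ H 1) (hnzd : τ ∈ nonZeroDivisors R)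
    (hregq : ∀ (q : Ideal (R ⧸ Ideal.span {τ})) [q.IsMaximal], IsRegularLocalRing (Localization.AtPrime q)) :
    ∃ X : R →ₐ[k] k, X τ ≠ 0 ∧ ∀ e < (0 : ℤ), ∀ r ∈ H e, X r = 0 := by
  classical
  have hy : y τ = 0 := hvan 1 one_ne_zero τ hτ
  haveI : IsNoetherianRing R := Algebra.FiniteType.isNoetherianRing k R
  let m := RingHom.ker y
  haveI hm : m.IsMaximal := RingHom.ker_isMaximal_of_surjective y fun c => ⟨algebraMap k _ c, y.commutes c⟩
  let S : Set R := {r | ∃ e ≤ (0 : ℤ), r ∈ H e ∧ y r = 0}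
  let I := Ideal.span S
  have hIm : I ≤ m := Ideal.span_le.2 fun r ⟨e, _, _, hr⟩ => hr
  -- homogeneous parts of products of two elements of `m`
  have hym : ∀ {r : R}, r ∈ m → ∀ e, π e r ∈ m := by
    intro r hr e
    by_cases he : e = 0
    · subst he
      have key : ∀ r : R, y (π 0 r) = y r := fun r => by
        refine Submodule.iSup_induction H (motive := fun r => y (π 0 r) = y r) (htop r) (fun f r hr => ?_) ?_
          (fun a b ha hb => by rw [map_add, map_add, map_add, ha, hb])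
        · rw [hπmem _ _ _ hr]
          by_cases hf : f = 0
          · simp [hf]
          · rw [if_neg hf, map_zero, hvan f hf r hr]
        · rw [map_zero, map_zero]
      exact RingHom.mem_ker.2 ((key r).trans (RingHom.mem_ker.1 hr))
    · exact RingHom.mem_ker.2 (hvan e he _ (hπH e r))
  have hdec : ∀ r : R, ∃ s : Finset ℤ, r = ∑ f ∈ s, π f r := by
    intro r
    obtain ⟨c, hc, hcr⟩ := (Submodule.mem_iSup_iff_exists_finsupp H r).1 (htop r)
    refine ⟨c.support, ?_⟩
    conv_lhs => rw [← hcr, Finsupp.sum]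
    refine Finset.sum_congr rfl fun f hf => ?_
    rw [← hcr, Finsupp.sum, map_sum, Finset.sum_congr rfl fun g _ => hπmem f g (c g) (hc g), Finset.sum_ite_eq',
      if_pos hf]
  have hπmm : ∀ z ∈ m * m, ∀ e, (e ≤ 0 → π e z ∈ m * I) ∧ π e z ∈ m * m := by
    intro z hz
    refine Submodule.mul_induction_on hz (fun a ha b hb e => ?_) fun a b ha hb e => by
      rw [map_add]; exact ⟨fun he => add_mem ((ha e).1 he) ((hb e).1 he), add_mem (ha e).2 (hb e).2⟩
    obtain ⟨sa, hsa⟩ := hdec a
    obtain ⟨sb, hsb⟩ := hdec b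
    have hterm : π e (a * b) = ∑ f ∈ sa, ∑ g ∈ sb, (if f + g = e then π f a * π g b else 0) := by
      conv_lhs => rw [hsa, hsb, Finset.sum_mul_sum, map_sum]
      refine Finset.sum_congr rfl fun f _ => ?_
      rw [map_sum]
      refine Finset.sum_congr rfl fun g _ => ?_
      exact hπmem e _ _ (hmul (hπH f a) (hπH g b))
    constructor
    · intro he
      rw [hterm]
      refine sum_mem fun f _ => sum_mem fun g _ => ?_
      split_ifs with hfg
      · rcases le_or_gt f 0 with hf | hf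
        · rw [mul_comm (π f a) (π g b)]
          exact Ideal.mul_mem_mul (hym hb g) (Ideal.subset_span (show π f a ∈ S from ⟨f, hf, hπH f a, RingHom.mem_ker.1 (hym ha f)⟩))
        · exact Ideal.mul_mem_mul (hym ha f) (Ideal.subset_span (show π g b ∈ S from ⟨g, by omega, hπH g b, RingHom.mem_ker.1 (hym hb g)⟩))
      · exact zero_mem _
    · rw [hterm]
      refine sum_mem fun f _ => sum_mem fun g _ => ?_
      split_ifs
      · exact Ideal.mul_mem_mul (hym ha f) (hym hb g)
      · exact zero_mem _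
  have hIsplit : ∀ r ∈ I, ∃ r₀ ∈ Submodule.span k S, r - r₀ ∈ m * I := by
    intro r hr
    refine Submodule.span_induction (p := fun r _ => ∃ r₀ ∈ Submodule.span k S, r - r₀ ∈ m * I)
      (fun s hs => ⟨s, Submodule.subset_span hs, by simp⟩) ⟨0, zero_mem _, by simp⟩ ?_ ?_ hr
    · rintro a b _ _ ⟨a₀, ha₀, ha⟩ ⟨b₀, hb₀, hb⟩
      exact ⟨a₀ + b₀, add_mem ha₀ hb₀, by rw [add_sub_add_comm]; exact add_mem ha hb⟩
    · rintro c a ha' ⟨a₀, ha₀, ha⟩
      refine ⟨y c • a₀, Submodule.smul_mem _ _ ha₀, ?_⟩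
      have h1 : c * a - y c • a₀ = (c - algebraMap k R (y c)) * a + algebraMap k R (y c) * (a - a₀) := by
        rw [Algebra.smul_def]; ring
      rw [smul_eq_mul, h1]
      exact add_mem (Ideal.mul_mem_mul (RingHom.mem_ker.2 (by rw [map_sub, y.commutes]; exact sub_self _)) ha')
        (Ideal.mul_mem_left _ _ ha)
  have hπS : ∀ r₀ ∈ Submodule.span k S, ∀ s : Finset ℤ, (r₀ = ∑ f ∈ s, π f r₀) →
      (π 1 r₀ = 0) ∧ (r₀ ∈ m * m → r₀ ∈ m * I) := by
    intro r₀ hr₀ s hs
    have hpos : ∀ e, 0 < e → π e r₀ = 0 := by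
      intro e he
      refine Submodule.span_induction (p := fun r _ => π e r = 0) ?_ (map_zero _)
        (fun a b _ _ ha hb => by rw [map_add, ha, hb, add_zero]) (fun c a _ ha => by rw [map_smul, ha, smul_zero]) hr₀
      rintro r ⟨f, hf, hr, -⟩
      rw [hπmem _ _ _ hr, if_neg (by omega)]
    refine ⟨hpos 1 one_pos, fun hmm => ?_⟩
    rw [hs]
    refine sum_mem fun f _ => ?_
    rcases le_or_gt f 0 with hf | hf
    · exact (hπmm r₀ hmm f).1 hf
    · rw [hpos f hf]; exact zero_mem _
  -- the local ring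
  let B := Localization.AtPrime m
  let α := algebraMap R B
  haveI : IsNoetherianRing B := IsLocalization.isNoetherianRing m.primeCompl B inferInstance
  have hτm : Ideal.span {τ} ≤ m := (Ideal.span_singleton_le_iff_mem _).2 hy
  haveI hqp : (m.map (Ideal.Quotient.mk (Ideal.span {τ}))).IsPrime :=
    Ideal.map_isPrime_of_surjective Ideal.Quotient.mk_surjective (by rwa [Ideal.mk_ker])
  haveI : (m.map (Ideal.Quotient.mk (Ideal.span {τ}))).IsMaximal :=
    Ideal.IsMaximal.map_of_surjective_of_ker_le Ideal.Quotient.mk_surjective (by rwa [Ideal.mk_ker])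
  haveI := hregq (m.map (Ideal.Quotient.mk (Ideal.span {τ})))
  obtain ⟨e⟩ := CommAlg6.localization_quotient_ringEquiv (Ideal.span {τ}) m hτm
  have hspan : (Ideal.span {τ}).map α = Ideal.span {α τ} := by rw [Ideal.map_span, Set.image_singleton]
  haveI : IsRegularLocalRing (B ⧸ Ideal.span {α τ}) :=
    IsRegularLocalRing.of_ringEquiv (e.trans (Ideal.quotEquivOfEq hspan))
  have hmB : maximalIdeal B = m.map α := (Localization.AtPrime.map_eq_maximalIdeal).symm
  have hατ : α τ ∈ maximalIdeal B := hmB ▸ Ideal.mem_map_of_mem _ hy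
  have hsreg : IsSMulRegular B (α τ) := CommAlg6.isSMulRegular_localization_self m hnzd
  haveI hBreg : IsRegularLocalRing B := CAlgH3.isRegularLocalRing_of_quotient hατ hsreg
  have hτ2 : α τ ∉ maximalIdeal B ^ 2 := notMem_sq_of_regular_quotient hατ hsreg
  have hback : ∀ r ∈ m, α r ∈ maximalIdeal B ^ 2 → r ∈ m * m := by
    intro r hr h
    rw [hmB, ← Ideal.map_pow, IsLocalization.algebraMap_mem_map_algebraMap_iff m.primeCompl] at h
    obtain ⟨s, hs, hsr⟩ := h
    rw [pow_two] at hsr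
    have hy0 : y s ≠ 0 := fun h0 => hs (RingHom.mem_ker.2 h0)
    have : y s • r = s * r - (s - algebraMap k R (y s)) * r := by rw [Algebra.smul_def]; ring
    have hmem : y s • r ∈ m * m := by
      rw [this]
      exact sub_mem hsr (Ideal.mul_mem_mul (RingHom.mem_ker.2 (by rw [map_sub, y.commutes]; exact sub_self _)) hr)
    have := Submodule.smul_of_tower_mem (m * m) (y s)⁻¹ hmem
    rwa [smul_smul, inv_mul_cancel₀ hy0, one_smul] at this
  have hJle : I.map α ≤ maximalIdeal B := hmB ▸ Ideal.map_mono hIm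
  have hJtop : I.map α ≠ ⊤ := fun h => (maximalIdeal.isMaximal B).ne_top (top_le_iff.1 (h ▸ hJle))
  have hJ : ∀ x ∈ I.map α, x ∈ maximalIdeal B ^ 2 → x ∈ maximalIdeal B * I.map α := by
    intro x hx hx2
    obtain ⟨⟨⟨r, hr⟩, ⟨s, hs⟩⟩, hxs⟩ := (IsLocalization.mem_map_algebraMap_iff m.primeCompl B).1 hx
    have hu : IsUnit (α s) := IsLocalization.map_units B ⟨s, hs⟩
    have hr2 : α r ∈ maximalIdeal B ^ 2 := hxs ▸ Ideal.mul_mem_right _ _ hx2
    obtain ⟨r₀, hr₀, hdiff⟩ := hIsplit r hr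
    have hr₀mm : r₀ ∈ m * m := by
      have := sub_mem (hback r (hIm hr) hr2) (Ideal.mul_mono_right hIm hdiff)
      rwa [sub_sub_cancel] at this
    obtain ⟨sd, hsd⟩ := hdec r₀
    have hrmI : r ∈ m * I := by
      have := add_mem hdiff ((hπS r₀ hr₀ sd hsd).2 hr₀mm)
      rwa [sub_add_cancel] at this
    rw [hmB, ← Ideal.map_mul]
    exact (Ideal.mul_unit_mem_iff_mem _ hu).1 (show x * α s ∈ _ from hxs ▸ Ideal.mem_map_of_mem _ hrmI)
  haveI := AlgSpLib.SmoothRegular.isRegularLocalRing_quotient (P := B) (I.map α) hJtop hJ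
  haveI : IsDomain (B ⧸ I.map α) := CAlgH3.isDomain_of_isRegularLocalRing _
  have hτI : ¬ IsNilpotent (Ideal.Quotient.mk I τ) := by
    rintro ⟨N, hN⟩
    rw [← map_pow, Ideal.Quotient.eq_zero_iff_mem] at hN
    have hp : (I.map α).IsPrime := (Ideal.Quotient.isDomain_iff_prime _).1 inferInstance
    have hτJ : α τ ∈ I.map α := hp.mem_of_pow_mem N (by rw [← map_pow]; exact Ideal.mem_map_of_mem _ hN)
    rw [IsLocalization.algebraMap_mem_map_algebraMap_iff m.primeCompl] at hτJ
    obtain ⟨s, hs, hsτ⟩ := hτJ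
    have hy0 : y s ≠ 0 := fun h0 => hs (RingHom.mem_ker.2 h0)
    obtain ⟨r₀, hr₀, hdiff⟩ := hIsplit _ hsτ
    have h1 : π 1 (y s • τ) ∈ m * m := by
      have he : y s • τ = r₀ + ((s * τ - r₀) - (s - algebraMap k R (y s)) * τ) := by
        rw [Algebra.smul_def]; ring
      obtain ⟨sd, hsd⟩ := hdec r₀
      rw [he, map_add, (hπS r₀ hr₀ sd hsd).1, zero_add]
      exact (hπmm _ (sub_mem (Ideal.mul_mono_right hIm hdiff)
        (Ideal.mul_mem_mul (RingHom.mem_ker.2 (by rw [map_sub, y.commutes]; exact sub_self _)) hy)) 1).2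
    rw [map_smul, hπmem _ _ _ hτ, if_pos rfl] at h1
    have h2 := Submodule.smul_of_tower_mem (m * m) (y s)⁻¹ h1
    rw [smul_smul, inv_mul_cancel₀ hy0, one_smul] at h2
    exact hτ2 (hmB ▸ pow_two (m.map α) ▸ Ideal.map_mul (f := α) m m ▸ Ideal.mem_map_of_mem α h2)
  obtain ⟨x, hx⟩ := Groth.Agent.HopfLib.exists_algHom_ne_zero (k := k) hτI
  refine ⟨x.comp (Ideal.Quotient.mkₐ k I), hx, fun e he r hr => ?_⟩
  show x (Ideal.Quotient.mk I r) = 0
  rw [Ideal.Quotient.eq_zero_iff_mem.2 (Ideal.subset_span (show r ∈ S from ⟨e, he.le, hr, hvan e (by omega) r hr⟩)), map_zero]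

end Groth.Agent.HMCrit29
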