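import Groth.Agent.HMCrit29.LiftHom
import Groth.Agent.HMCrit29.Graded
import Groth.Agent.HopfLib.Cartier

/-! # The group point carrying the filtration to the filtration of the cocharacter -/

set_option autoImplicit false
set_option backward.isDefEq.respectTransparency.types false

noncomputable section

open TensorProduct LaurentPolynomial
open CoalgebraStruct (comul counit)

namespace Groth.Agent.HMCrit29

universe u

variable {k : Type u} [Field k] {A : Type u} [CommRing A] [HopfAlgebra k A]

namespace Curve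

variable (D : Curve k A)

theorem isRegularLocalRing_fibre [IsAlgClosed k] [CharZero k] [Algebra.FiniteType k A] {R : Type u} [CommRing R]
    [Algebra k R] {τ : R} {θ : R →ₐ[k] A}
    (hsurj : Function.Surjective θ) (hker : RingHom.ker θ = Ideal.span {τ})
    (q : Ideal (R ⧸ Ideal.span {τ})) [q.IsMaximal] : IsRegularLocalRing (Localization.AtPrime q) := by
  let E : (R ⧸ Ideal.span {τ}) ≃+* A :=
    (Ideal.quotEquivOfEq hker.symm).trans (RingHom.quotientKerEquivOfSurjective (f := θ.toRingHom) hsurj)
  haveI : (q.comap E.symm.toRingHom).IsMaximal := Ideal.comap_isMaximal_of_surjective _ E.symm.surjective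
  haveI := Groth.Agent.HopfLib.isRegularLocalRing_of_isMaximal (k := k) (A := A) (q.comap E.symm.toRingHom)
  refine IsRegularLocalRing.of_ringEquiv (IsLocalization.ringEquivOfRingEquiv
    (M := (q.comap E.symm.toRingHom).primeCompl) (T := q.primeCompl)
    (Localization.AtPrime (q.comap E.symm.toRingHom)) (Localization.AtPrime q) E.symm ?_)
  ext z
  constructor
  · rintro ⟨w, hw, rfl⟩; exact hw
  · intro hz; exact ⟨E z, by simpa [Ideal.primeCompl] using hz, E.symm_apply_apply z⟩

theorem τ_mem_nonZeroDivisors : D.τ ∈ nonZeroDivisors D.Rees := mem_nonZeroDivisors_iff_right.2 fun r hr => by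
  refine Subtype.ext ?_
  have h := congrArg (fun z : D.Rees => (z : A[T;T⁻¹]) * el 1 1) hr
  simp only [Subalgebra.coe_mul, ZeroMemClass.coe_zero, zero_mul] at h
  rwa [mul_assoc, show (D.τ : A[T;T⁻¹]) = el (-1) 1 from rfl, el_mul, one_mul,
    show (-1 : ℤ) + 1 = 0 by norm_num, el_one_zero, mul_one] at h

theorem exists_lift [IsAlgClosed k] [CharZero k] [Algebra.FiniteType k A] (hG : HopfRep.IsLinearlyReductive k A) :
    ∃ (lam : A →ₐc[k] k[T;T⁻¹]) (g : A →ₐ[k] k), ∀ (n : ℤ) (a : A), a ∈ D.F n → ∀ e < n,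
      (TensorProduct.rid k k[T;T⁻¹] (Algebra.TensorProduct.map (lam : A →ₐ[k] k[T;T⁻¹]) g (comul (R := k) a))).coeff e = 0 := by
  classical
  obtain ⟨y, hy⟩ := D.exists_point hG
  obtain ⟨θ, lam, hlam, hθ, hsurj, hker⟩ := D.exists_lam hG y hy
  haveI := D.finiteType_rees hG
  have hτker : RingHom.ker θ = Ideal.span {D.τ} := le_antisymm hker (by
    rw [Ideal.span_singleton_le_iff_mem, RingHom.mem_ker, show D.τ = D.elR D.one_mem_F_neg from rfl,
      hθ (-1) 1 _ Unit (fun _ => 1) (fun _ => 1) (fun _ => D.one_mem_F_neg) (by simp [Algebra.TensorProduct.one_def])]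
    simp only [Finset.univ_unique, Finset.sum_const, Finset.card_singleton, one_smul]
    rw [show D.elR D.one_mem_F_neg = D.τ from rfl, hy, zero_smul])
  have htop := fun r => mem_iSup_Hom' hG hy hlam hθ r
  obtain ⟨π, hπH, hπ, hπmem⟩ := exists_part (D := D) htop
  obtain ⟨X, hc, hvanX⟩ := exists_point_attracting (R := D.Rees) (D.Hom' lam y) π y D.τ
    (fun h h' => mul_mem_Hom' h h') htop hπH hπmem (fun e he r hr => hr.2 he) (τ_mem_Hom' hy)
    D.τ_mem_nonZeroDivisors (fun q _ => isRegularLocalRing_fibre hsurj hτker q)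
  let c := X D.τ
  choose N hN using fun a : A => D.exhaustive {a}
  let gf : A → k := fun a => c ^ N a * X (D.elR (hN a a (Finset.mem_singleton_self a)))
  have hgf : ∀ (n : ℤ) (a : A) (ha : a ∈ D.F n), gf a = c ^ n * X (D.elR ha) := by
    have key : ∀ {m n : ℤ} {a : A} (hm : a ∈ D.F m) (hn : a ∈ D.F n), m ≤ n →
        c ^ m * X (D.elR hm) = c ^ n * X (D.elR hn) := by
      intro m n a hm hn hmn
      rw [D.τ_pow_mul_elR (n - m).toNat hm hn (by rw [Int.toNat_of_nonneg (by omega)]; ring), map_mul, map_pow,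
        ← mul_assoc, ← zpow_natCast, ← zpow_add₀ hc, Int.toNat_of_nonneg (by omega), add_sub_cancel]
    intro n a ha
    rcases le_total (N a) n with h | h
    · exact key _ ha h
    · exact (key ha _ h).symm
  let g : A →ₐ[k] k :=
    { toFun := gf
      map_one' := by
        rw [hgf 0 1 D.one_mem_F, show D.elR D.one_mem_F = 1 from Subtype.ext el_one_zero, map_one, zpow_zero, mul_one]
      map_mul' := fun a b => by
        rw [hgf _ _ (D.mul_mem_F (hN a a (Finset.mem_singleton_self a)) (hN b b (Finset.mem_singleton_self b))),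
          show D.elR (D.mul_mem_F (hN a a (Finset.mem_singleton_self a)) (hN b b (Finset.mem_singleton_self b))) =
            D.elR (hN a a (Finset.mem_singleton_self a)) * D.elR (hN b b (Finset.mem_singleton_self b)) from
            Subtype.ext (el_mul _ _ _ _).symm, map_mul, zpow_add₀ hc]
        simp only [gf]; ring
      map_zero' := by
        rw [hgf 0 0 (zero_mem _), show D.elR (zero_mem (D.F 0)) = 0 from Subtype.ext (el_zero 0), map_zero, mul_zero]
      map_add' := fun a b => by
        obtain ⟨n, hn⟩ := D.exhaustive {a, b}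
        have ha := hn a (by simp)
        have hb := hn b (by simp)
        rw [hgf n _ (add_mem ha hb), hgf n _ ha, hgf n _ hb,
          show D.elR (add_mem ha hb) = D.elR ha + D.elR hb from Subtype.ext (el_add _ _ _), map_add, mul_add]
      commutes' := fun r => by
        have hr : algebraMap k A r ∈ D.F 0 := by rw [Algebra.algebraMap_eq_smul_one]; exact Submodule.smul_mem _ _ D.one_mem_F
        rw [hgf 0 _ hr, show D.elR hr = algebraMap k D.Rees r from Subtype.ext (by
          show el 0 (algebraMap k A r) = algebraMap k A[T;T⁻¹] r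
          rw [el, neg_zero, T_zero, mul_one, LaurentPolynomial.algebraMap_apply]), AlgHom.commutes, zpow_zero, one_mul] }
  refine ⟨lam, g, fun n a ha e he => ?_⟩
  obtain ⟨Fr, hFr⟩ := Frame.exists_frame D (Set.finite_singleton a)
  refine Submodule.span_induction (p := fun a _ =>
    (TensorProduct.rid k k[T;T⁻¹] (Algebra.TensorProduct.map (lam : A →ₐ[k] k[T;T⁻¹]) g (comul (R := k) a))).coeff e = 0)
    ?_ (by simp) (fun a b _ _ ha hb => by simp [ha, hb]) (fun c a _ ha => by simp [ha])
    (Fr.mem_span_of_mem_F hG (hFr rfl) ha)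
  rintro _ ⟨j, hj, rfl⟩
  rw [Fr.comul_e]
  have hcp : ∀ i, Fr.cp i j ∈ D.F n := fun i => D.F_le hj (Fr.cp_mem i j)
  let r : D.Rees := D.elR (D.F_le hj (Fr.e_mem j))
  have hr : π (e - n) r = ∑ i, (lam (Fr.w i)).coeff e • D.elR (hcp i) := by
    refine Subtype.ext ?_
    rw [hπ, AddSubmonoidClass.coe_finsetSum]
    show part lam (e - n) (el n (Fr.e j)) = _
    simp only [part, LinearMap.coe_comp, Function.comp_apply, AlgHom.toLinearMap_apply,
      σT_el lam Fr.w (fun i => Fr.cp i j) (Fr.comul_e j), map_sum, LinearMap.lTensor_tmul, LinearEquiv.coe_coe,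
      TensorProduct.rid_tmul, AddMonoidAlgebra.coeffLinearEquiv_apply, Finsupp.lapply_apply, SetLike.val_smul]
    refine Finset.sum_congr rfl fun i _ => ?_
    rw [T, AddMonoidAlgebra.coeff_mul_single_apply, mul_one, show e - n + - -n = e by ring]
    rfl
  have hX : X (π (e - n) r) = 0 := by
    exact hvanX _ (by omega) _ (hπH _ _)
  rw [hr, map_sum] at hX
  simp only [map_smul, smul_eq_mul] at hX
  simp only [map_sum, Algebra.TensorProduct.map_tmul, TensorProduct.rid_tmul, AddMonoidAlgebra.coeff_sum,
    AddMonoidAlgebra.coeff_smul, Finsupp.finsetSum_apply, Finsupp.smul_apply, smul_eq_mul]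
  calc _ = ∑ i, c ^ n * ((lam (Fr.w i)).coeff e * X (D.elR (hcp i))) := by
        refine Finset.sum_congr rfl fun i _ => ?_
        rw [show g (Fr.cp i j) = gf (Fr.cp i j) from rfl, hgf n _ (hcp i), mul_assoc, mul_comm (X (D.elR (hcp i)))]
        rfl
    _ = 0 := by rw [← Finset.mul_sum, hX, mul_zero]

end Curve

end Groth.Agent.HMCrit29
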