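import Groth.Agent.HMCrit29.Torsor

/-! # The group point carrying the filtration to the filtration of the cocharacter -/

set_option autoImplicit false
set_option backward.isDefEq.respectTransparency.types false

noncomputable section

open TensorProduct LaurentPolynomial IsLocalRing
open HopfRep (Comod IsSubcomod)
open CoalgebraStruct (comul counit)

namespace Groth.Agent.HMCrit29

universe u

variable {k : Type u} [Field k] {A : Type u} [CommRing A] [HopfAlgebra k A]

namespace Curve

variable (D : Curve k A)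

theorem exhaustive (s : Finset A) : ∃ n, ∀ a ∈ s, a ∈ D.F n := by
  obtain ⟨Fr, hFr⟩ := Frame.exists_frame D s.finite_toSet
  obtain ⟨n, hn⟩ := (Set.finite_range Fr.d).bddBelow
  have he : ∀ j, Fr.e j ∈ D.F n := fun j => D.F_le (hn ⟨j, rfl⟩) (Fr.e_mem j)
  have hw : Submodule.span k (Set.range Fr.w) ≤ D.F n := Submodule.span_le.2 (by
    rintro _ ⟨l, rfl⟩
    rw [Fr.w_eq l]
    exact sum_mem fun j _ => Submodule.smul_mem _ _ (he j))
  exact ⟨n, fun a ha => hw (hFr ha)⟩

/-- twisted grading -/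
def σT (lam : A →ₐc[k] k[T;T⁻¹]) : A[T;T⁻¹] →ₐ[k] A[T;T⁻¹] ⊗[k] k[T;T⁻¹] :=
  AddMonoidAlgebra.liftNCAlgHom
    ((Algebra.TensorProduct.comm k k[T;T⁻¹] A[T;T⁻¹]).toAlgHom.comp
      ((Algebra.TensorProduct.map (lam : A →ₐ[k] k[T;T⁻¹]) (IsScalarTower.toAlgHom k A A[T;T⁻¹])).comp
        (Bialgebra.comulAlgHom k A)))
    { toFun := fun m => T m.toAdd ⊗ₜ[k] T m.toAdd
      map_one' := by rw [toAdd_one, T_zero, T_zero]; rfl
      map_mul' := fun a b => by rw [toAdd_mul, T_add, T_add, Algebra.TensorProduct.tmul_mul_tmul] }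
    fun _ _ => Commute.all _ _

theorem σT_el (lam : A →ₐc[k] k[T;T⁻¹]) {n : ℤ} {a : A} {ι : Type*} [Fintype ι] (u v : ι → A)
    (h : comul (R := k) a = ∑ i, u i ⊗ₜ[k] v i) :
    σT lam (el n a) = ∑ i, el n (v i) ⊗ₜ[k] (lam (u i) * T (-n)) := by
  rw [el_eq_single, σT, AddMonoidAlgebra.coe_liftNCAlgHom, AddMonoidAlgebra.liftNC_single]
  show (Algebra.TensorProduct.comm k k[T;T⁻¹] A[T;T⁻¹]).toAlgHom.comp
      ((Algebra.TensorProduct.map (lam : A →ₐ[k] k[T;T⁻¹]) (IsScalarTower.toAlgHom k A A[T;T⁻¹])).comp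
        (Bialgebra.comulAlgHom k A)) a * (T (-n) ⊗ₜ[k] T (-n)) = _
  simp only [AlgHom.comp_apply, Bialgebra.comulAlgHom_apply, h, map_sum, Finset.sum_mul,
    Algebra.TensorProduct.map_tmul, AlgEquiv.coe_toAlgHom, Algebra.TensorProduct.comm_tmul,
    Algebra.TensorProduct.tmul_mul_tmul]
  rfl

/-- homogeneous elements of the Rees algebra, those of non-zero degree vanishing at the point -/
def Hom' (lam : A →ₐc[k] k[T;T⁻¹]) (y : D.Rees →ₐ[k] k) (e : ℤ) : Submodule k D.Rees where
  carrier := {r | σT lam (r : A[T;T⁻¹]) = (r : A[T;T⁻¹]) ⊗ₜ[k] T e ∧ (e ≠ 0 → y r = 0)}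
  zero_mem' := ⟨by simp, fun _ => map_zero _⟩
  add_mem' := fun {r r'} h h' => ⟨by simp [h.1, h'.1, TensorProduct.add_tmul],
    fun he => by rw [map_add, h.2 he, h'.2 he, add_zero]⟩
  smul_mem' := fun c r h => ⟨by simp [h.1, TensorProduct.smul_tmul'], fun he => by rw [map_smul, h.2 he, smul_zero]⟩

/-- the part of degree `e` -/
def part (lam : A →ₐc[k] k[T;T⁻¹]) (e : ℤ) : A[T;T⁻¹] →ₗ[k] A[T;T⁻¹] :=
  (TensorProduct.rid k _).toLinearMap ∘ₗ
    (((Finsupp.lapply e).comp (AddMonoidAlgebra.coeffLinearEquiv k).toLinearMap).lTensor _) ∘ₗ (σT lam).toLinearMap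

theorem part_of_mem {lam : A →ₐc[k] k[T;T⁻¹]} {y : D.Rees →ₐ[k] k} {e f : ℤ} {r : D.Rees} (h : r ∈ D.Hom' lam y f) :
    part lam e (r : A[T;T⁻¹]) = if f = e then (r : A[T;T⁻¹]) else 0 := by
  simp only [part, LinearMap.coe_comp, Function.comp_apply, AlgHom.toLinearMap_apply, LinearEquiv.coe_coe, h.1,
    LinearMap.lTensor_tmul, TensorProduct.rid_tmul, AddMonoidAlgebra.coeffLinearEquiv_apply, Finsupp.lapply_apply]
  rw [T, AddMonoidAlgebra.coeff_single, Finsupp.single_apply]
  split_ifs <;> simp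

variable {D}
theorem one_mem_Hom' (lam : A →ₐc[k] k[T;T⁻¹]) (y : D.Rees →ₐ[k] k) : (1 : D.Rees) ∈ D.Hom' lam y 0 :=
  ⟨by rw [Subalgebra.coe_one, map_one, T_zero]; rfl, fun h => absurd rfl h⟩

theorem mul_mem_Hom' {lam : A →ₐc[k] k[T;T⁻¹]} {y : D.Rees →ₐ[k] k} {e f : ℤ} {r s : D.Rees}
    (hr : r ∈ D.Hom' lam y e) (hs : s ∈ D.Hom' lam y f) : r * s ∈ D.Hom' lam y (e + f) := by
  refine ⟨by rw [Subalgebra.coe_mul, map_mul, hr.1, hs.1, Algebra.TensorProduct.tmul_mul_tmul, ← T_add], fun hef => ?_⟩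
  rw [map_mul]
  by_cases he : e = 0
  · rw [hs.2 (by omega), mul_zero]
  · rw [hr.2 he, zero_mul]

theorem τ_mem_Hom' {lam : A →ₐc[k] k[T;T⁻¹]} {y : D.Rees →ₐ[k] k} (hy : y D.τ = 0) :
    D.τ ∈ D.Hom' lam y 1 := by
  refine ⟨?_, fun _ => hy⟩
  show σT lam (el (-1) (1 : A)) = _
  rw [σT_el lam (fun _ : Unit => (1 : A)) (fun _ => 1) (by simp [Algebra.TensorProduct.one_def])]
  simp only [Finset.univ_unique, Finset.sum_const, Finset.card_singleton, one_smul, map_one, one_mul, neg_neg]
  rfl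

theorem mem_iSup_Hom' [Algebra.FiniteType k A] (hG : HopfRep.IsLinearlyReductive k A) {lam : A →ₐc[k] k[T;T⁻¹]}
    {y : D.Rees →ₐ[k] k} (hy : y D.τ = 0) {θ : D.Rees →ₐ[k] A}
    (hlam : ∀ (n : ℤ) (a : A) (ha : a ∈ D.F n), lam (θ (D.elR ha)) = y (D.elR ha) • T n)
    (hθ : ∀ (n : ℤ) (a : A) (ha : a ∈ D.F n) (ι : Type) [Fintype ι] (u v : ι → A) (hv : ∀ i, v i ∈ D.F n),
        comul (R := k) a = ∑ i, u i ⊗ₜ[k] v i → θ (D.elR ha) = ∑ i, y (D.elR (hv i)) • u i) (x : D.Rees) :
    x ∈ ⨆ e, D.Hom' lam y e := by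
  classical
  let H := D.Hom' lam y
  have hone := one_mem_Hom' lam y
  have hmul : ∀ {e f : ℤ} {r s : D.Rees}, r ∈ H e → s ∈ H f → r * s ∈ H (e + f) := fun h h' => mul_mem_Hom' h h'
  have hτ : D.τ ∈ H 1 := τ_mem_Hom' hy
  let Hall : Submodule k D.Rees := ⨆ e, H e
  have hone : (1 : D.Rees) ∈ H 0 := ⟨by rw [Subalgebra.coe_one, map_one, T_zero]; rfl, fun h => absurd rfl h⟩
  have hmul : ∀ {e f : ℤ} {r s : D.Rees}, r ∈ H e → s ∈ H f → r * s ∈ H (e + f) := by
    intro e f r s hr hs
    refine ⟨by rw [Subalgebra.coe_mul, map_mul, hr.1, hs.1, Algebra.TensorProduct.tmul_mul_tmul, ← T_add], fun hef => ?_⟩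
    rw [map_mul]
    by_cases he : e = 0
    · rw [hs.2 (by omega), mul_zero]
    · rw [hr.2 he, zero_mul]
  have hτ : D.τ ∈ H 1 := by
    refine ⟨?_, fun _ => hy⟩
    show σT lam (el (-1) (1 : A)) = _
    rw [σT_el lam (fun _ : Unit => (1 : A)) (fun _ => 1) (by simp [Algebra.TensorProduct.one_def])]
    simp only [Finset.univ_unique, Finset.sum_const, Finset.card_singleton, one_smul, map_one, one_mul, neg_neg]
    rfl
  have hHall_mul : ∀ r ∈ Hall, ∀ s ∈ Hall, r * s ∈ Hall := by
    intro r hr s hs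
    refine Submodule.iSup_induction H (motive := fun r => r * s ∈ Hall) hr (fun e r hr => ?_)
      (by rw [zero_mul]; exact zero_mem _) (fun a b ha hb => by rw [add_mul]; exact add_mem ha hb)
    refine Submodule.iSup_induction H (motive := fun s => r * s ∈ Hall) hs (fun f s hs => ?_)
      (by rw [mul_zero]; exact zero_mem _) (fun a b ha hb => by rw [mul_add]; exact add_mem ha hb)
    exact Submodule.mem_iSup_of_mem _ (hmul hr hs)
  let HA : Subalgebra k D.Rees :=
    Hall.toSubalgebra (Submodule.mem_iSup_of_mem 0 hone) fun r s hr hs => hHall_mul r hr s hs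
  have hHe : ∀ (n : ℤ) (a : A) (ha : a ∈ D.F n), D.elR ha ∈ HA := by
    obtain ⟨Fr, hgen⟩ := D.exists_gen_frame
    have hτA : D.τ ∈ HA := Submodule.mem_iSup_of_mem 1 hτ
    have hej : ∀ j, D.elR (Fr.e_mem j) ∈ HA := by
      intro j
      let Y : Matrix (Fin Fr.N) (Fin Fr.N) k := Matrix.of fun i l => y (D.elR (Fr.cp_mem i l))
      let Y' : Matrix (Fin Fr.N) (Fin Fr.N) k := Matrix.of fun j i => y (D.elR (Fr.sp_mem j i))
      have hYY : Y' * Y = 1 := by
        ext a b
        have h1 : (∑ i, D.elR (Fr.sp_mem a i) * D.elR (Fr.cp_mem i b) : D.Rees) =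
            (if a = b then 1 else 0 : D.Rees) := by
          refine Subtype.ext ?_
          rw [AddSubmonoidClass.coe_finsetSum]
          show ∑ i, el (-Fr.d a) (Fr.sp a i) * el (Fr.d b) (Fr.cp i b) = _
          simp only [el_mul, ← el_sum]
          rw [← Matrix.mul_apply, Fr.sp_mul_cp, Matrix.one_apply]
          by_cases hjl : a = b
          · subst hjl; simp [el_one_zero]
          · simp [hjl, el_zero]
        have h3 := congrArg y h1
        simp only [map_sum, map_mul] at h3
        rw [Matrix.mul_apply, Matrix.one_apply]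
        simp only [Y, Y', Matrix.of_apply]
        rw [h3]
        split <;> simp
      let K := algebraMap k k[T;T⁻¹]
      have hΛ : Fr.c.map lam * Y.map K = Y.map K * Matrix.diagonal (fun j => T (Fr.d j)) := by
        refine Matrix.ext fun m i => ?_
        rw [Matrix.mul_diagonal]
        have h1 := hθ _ _ (Fr.cp_mem m i) _ (fun l => Fr.c m l) (fun l => Fr.cp l i) (fun l => Fr.cp_mem l i) (by
          simp only [Frame.cp, Matrix.mul_apply, Matrix.map_apply, map_sum, TensorProduct.tmul_sum]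
          simp only [mul_comm _ (algebraMap k A _), ← Algebra.smul_def, map_smul, comul_coeff Fr.indep Fr.hc,
            Finset.smul_sum, ← TensorProduct.tmul_smul]
          exact Finset.sum_comm)
        have h2 := congrArg lam h1
        rw [hlam, map_sum] at h2
        simp only [map_smul] at h2
        simp only [Matrix.mul_apply, Y, K, Matrix.map_apply, Matrix.of_apply]
        rw [← Algebra.smul_def, h2]
        exact Finset.sum_congr rfl fun l _ => by rw [mul_comm, Algebra.smul_def]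
      have hY'Λ : Y'.map K * Fr.c.map lam = Matrix.diagonal (fun j => T (Fr.d j)) * Y'.map K := by
        have h := congrArg (fun M => Y'.map K * M * Y'.map K) hΛ
        rwa [Matrix.mul_assoc, Matrix.mul_assoc (Fr.c.map lam), ← Matrix.map_mul, mul_eq_one_comm.1 hYY,
          Matrix.map_one _ (map_zero _) (map_one _), Matrix.mul_one, ← Matrix.mul_assoc (Y'.map K), ← Matrix.map_mul,
          hYY, Matrix.map_one _ (map_zero _) (map_one _), Matrix.one_mul] at h
      let q : Fin Fr.N → D.Rees := fun l => ∑ i, Y' l i • D.elR (Fr.cp_mem i j)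
      have hq : ∀ l, q l ∈ H (Fr.d l - Fr.d j) := by
        intro l
        refine ⟨?_, fun hne => ?_⟩
        · simp only [q, AddSubmonoidClass.coe_finsetSum, SetLike.val_smul, map_sum, map_smul]
          show ∑ i, Y' l i • σT lam (el (Fr.d j) (Fr.cp i j)) = (∑ i, Y' l i • el (Fr.d j) (Fr.cp i j)) ⊗ₜ[k] _
          have hd : ∀ i, comul (R := k) (Fr.cp i j) = ∑ m, Fr.c i m ⊗ₜ[k] Fr.cp m j := fun i => by
            simp only [Frame.cp, Matrix.mul_apply, Matrix.map_apply, map_sum, TensorProduct.tmul_sum]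
            simp only [mul_comm _ (algebraMap k A _), ← Algebra.smul_def, map_smul, comul_coeff Fr.indep Fr.hc,
              Finset.smul_sum, ← TensorProduct.tmul_smul]
            exact Finset.sum_comm
          simp only [σT_el lam _ _ (hd _), Finset.smul_sum, ← TensorProduct.tmul_smul, TensorProduct.sum_tmul,
            TensorProduct.smul_tmul]
          rw [Finset.sum_comm]
          refine Finset.sum_congr rfl fun m _ => ?_
          rw [← TensorProduct.tmul_sum]
          congr 1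
          have h := congrFun (congrFun hY'Λ l) m
          rw [Matrix.diagonal_mul] at h
          simp only [Matrix.mul_apply, Matrix.map_apply, K, ← Algebra.smul_def] at h
          simp only [← smul_mul_assoc, ← Finset.sum_mul]
          rw [h, Algebra.smul_def, sub_eq_add_neg, T_add]
          ring
        · simp only [q, map_sum, map_smul, smul_eq_mul]
          have h := congrFun (congrFun hYY l) j
          rw [Matrix.one_apply_ne (by rintro rfl; simp at hne)] at h
          simpa [Matrix.mul_apply, Y, Y'] using h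
      have hqA : ∀ l, q l ∈ HA := fun l => Submodule.mem_iSup_of_mem _ (hq l)
      have hcp : ∀ i, D.elR (Fr.cp_mem i j) = ∑ l, Y i l • q l := by
        intro i
        simp only [q, Finset.smul_sum, smul_smul]
        rw [Finset.sum_comm]
        have h := fun m => congrFun (congrFun (mul_eq_one_comm.1 hYY : Y * Y' = 1) i) m
        simp only [Matrix.mul_apply] at h
        simp only [← Finset.sum_smul, h, Matrix.one_apply, ite_smul, one_smul, zero_smul, Finset.sum_ite_eq,
          Finset.mem_univ, if_true]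
      have hej : D.elR (Fr.e_mem j) = ∑ i, counit (R := k) (Fr.w i) • D.elR (Fr.cp_mem i j) := by
        refine Subtype.ext ?_
        simp only [AddSubmonoidClass.coe_finsetSum, SetLike.val_smul]
        show el (Fr.d j) (Fr.e j) = ∑ i, counit (R := k) (Fr.w i) • el (Fr.d j) (Fr.cp i j)
        simp only [← el_smul, ← el_sum]
        congr 1
        have h := Coalgebra.rTensor_counit_comul (R := k) (Fr.e j)
        rw [Fr.comul_e, map_sum] at h
        have h2 := congrArg (TensorProduct.lid k A) h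
        simp only [map_sum, LinearMap.rTensor_tmul, TensorProduct.lid_tmul, one_smul] at h2
        exact h2.symm
      rw [hej]
      refine sum_mem fun i _ => Subalgebra.smul_mem _ ?_ _
      rw [hcp]
      exact sum_mem fun l _ => Subalgebra.smul_mem _ (hqA l) _
    intro n a ha
    let B := HA.map D.Rees.val
    suffices el n a ∈ B by
      obtain ⟨r, hr, hre⟩ := this
      exact (show r = D.elR ha from Subtype.ext hre) ▸ hr
    refine Submodule.span_induction (p := fun a _ => el n a ∈ B) ?_ (by rw [el_zero]; exact zero_mem _)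
      (fun x y _ _ hx hy => by rw [el_add]; exact add_mem hx hy)
      (fun c x _ hx => by rw [el_smul]; exact B.smul_mem hx c) (Fr.mem_span_monomials hG hgen ha)
    rintro _ ⟨α, hα, rfl⟩
    have hprod : ∀ s : Finset (Fin Fr.N), ∏ j ∈ s, el (Fr.d j) (Fr.e j) ^ α j =
        el (∑ j ∈ s, (α j : ℤ) * Fr.d j) (∏ j ∈ s, Fr.e j ^ α j) := fun s => by
      induction s using Finset.induction_on with
      | empty => simp [el_one_zero]
      | insert j s hj ih => rw [Finset.prod_insert hj, ih, el_pow, el_mul, Finset.sum_insert hj, Finset.prod_insert hj]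
    have := mul_mem (pow_mem (show (D.τ : A[T;T⁻¹]) ∈ B from ⟨_, hτA, rfl⟩) ((∑ j, (α j : ℤ) * Fr.d j) - n).toNat)
      (prod_mem (fun j (_ : j ∈ Finset.univ) => pow_mem (show el (Fr.d j) (Fr.e j) ∈ B from ⟨_, hej j, rfl⟩) (α j)))
    rwa [hprod, D.τ_pow_mul, Int.toNat_of_nonneg (by simpa using hα), sub_sub_cancel] at this
  have htop : ∀ r : D.Rees, r ∈ Hall := by
    rintro ⟨p, hp⟩
    have : (⟨p, hp⟩ : D.Rees) = ∑ m ∈ p.coeff.support, D.elR (D.coeff_mem hp m) :=
      Subtype.ext (by rw [AddSubmonoidClass.coe_finsetSum]; exact sum_el p)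
    rw [this]
    exact sum_mem fun m _ => hHe _ _ _
  exact htop x

theorem exists_part [Algebra.FiniteType k A] {lam : A →ₐc[k] k[T;T⁻¹]} {y : D.Rees →ₐ[k] k}
    (htop : ∀ x, x ∈ ⨆ e, D.Hom' lam y e) :
    ∃ π : ℤ → D.Rees →ₗ[k] D.Rees, (∀ e r, π e r ∈ D.Hom' lam y e) ∧ (∀ e r, (π e r : A[T;T⁻¹]) = part lam e r) ∧
      ∀ e f r, r ∈ D.Hom' lam y f → π e r = if f = e then r else 0 := by
  classical
  let H := D.Hom' lam y
  have hpart : ∀ (e : ℤ) (r : D.Rees), ∃ r' ∈ H e, (r' : A[T;T⁻¹]) = part lam e r := by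
    intro e r
    refine Submodule.iSup_induction H (motive := fun r => ∃ r' ∈ H e, (r' : A[T;T⁻¹]) = part lam e r) (htop r)
      (fun f r hr => ?_) ⟨0, zero_mem _, by simp⟩ ?_
    · rw [D.part_of_mem hr]
      by_cases hfe : f = e
      · exact ⟨r, hfe ▸ hr, by simp [hfe]⟩
      · exact ⟨0, zero_mem _, by simp [hfe]⟩
    · rintro a b ⟨a', ha', hae⟩ ⟨b', hb', hbe⟩
      exact ⟨a' + b', add_mem ha' hb', by simp [hae, hbe]⟩
  choose π hπH hπ using hpart
  refine ⟨fun e => { toFun := π e
                     map_add' := fun a b => Subtype.ext (by simp [hπ])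
                     map_smul' := fun c r => Subtype.ext (by simp [hπ]) }, hπH, hπ, fun e f r hr => ?_⟩
  exact Subtype.ext ((hπ e r).trans (by rw [D.part_of_mem hr]; split_ifs <;> rfl))

end Curve

end Groth.Agent.HMCrit29
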