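import Groth.Agent.HMCrit29.Frame
import Mathlib.RingTheory.Jacobson.Ring
import Mathlib.Algebra.Polynomial.Laurent
import Mathlib.RingTheory.Flat.Basic
import Mathlib.FieldTheory.IsAlgClosed.Basic
import Mathlib.RingTheory.Finiteness.Finsupp

/-! # The Rees algebra of the filtration, its points over zero and the one-parameter subgroup they give -/

set_option autoImplicit false
set_option backward.isDefEq.respectTransparency.types false

noncomputable section

open TensorProduct LaurentPolynomial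
open HopfRep (Comod IsSubcomod)
open CoalgebraStruct (comul counit)

namespace Groth.Agent.HMCrit29

universe u

variable {k : Type u} [Field k] {A : Type u} [CommRing A] [HopfAlgebra k A]

/-! ### polynomial comodule of a frame -/

namespace Frame

variable {D : Curve k A} (Fr : Frame D)

def subst : MvPolynomial (Fin Fr.N) k →ₐ[k] MvPolynomial (Fin Fr.N) k ⊗[k] A :=
  MvPolynomial.aeval fun l => ∑ j, MvPolynomial.X j ⊗ₜ[k] Fr.c j l

@[reducible] def substComod : Comod k A (MvPolynomial (Fin Fr.N) k) where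
  coact := Fr.subst.toLinearMap
  coassoc := by
    have h : ((Algebra.TensorProduct.assoc k k k (MvPolynomial (Fin Fr.N) k) A A).toAlgHom.comp
        ((Algebra.TensorProduct.map Fr.subst (AlgHom.id k A)).comp Fr.subst)) =
        (Algebra.TensorProduct.map (AlgHom.id k _) (Bialgebra.comulAlgHom k A)).comp Fr.subst := by
      refine MvPolynomial.algHom_ext fun l => ?_
      simp only [subst, AlgHom.comp_apply, MvPolynomial.aeval_X, map_sum, Algebra.TensorProduct.map_tmul,
        AlgHom.coe_id, id_eq, Bialgebra.comulAlgHom_apply, comul_coeff Fr.indep Fr.hc, TensorProduct.sum_tmul,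
        TensorProduct.tmul_sum, AlgEquiv.coe_toAlgHom, Algebra.TensorProduct.assoc_tmul]
      exact Finset.sum_comm
    refine LinearMap.ext fun p => ?_
    exact DFunLike.congr_fun h p
  counit_comp := by
    have h : (Algebra.TensorProduct.map (AlgHom.id k _) (Bialgebra.counitAlgHom k A)).comp Fr.subst =
        Algebra.TensorProduct.includeLeft := by
      refine MvPolynomial.algHom_ext fun l => ?_
      simp only [subst, AlgHom.comp_apply, MvPolynomial.aeval_X, map_sum, Algebra.TensorProduct.map_tmul,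
        AlgHom.coe_id, id_eq, Bialgebra.counitAlgHom_apply, counit_coeff Fr.indep Fr.hc]
      simp [Matrix.one_apply, TensorProduct.tmul_ite, Algebra.TensorProduct.includeLeft_apply]
    refine LinearMap.ext fun p => ?_
    exact DFunLike.congr_fun h p

theorem aeval_subst (p : MvPolynomial (Fin Fr.N) k) :
    (MvPolynomial.aeval Fr.w).toLinearMap.rTensor A (Fr.subst p) =
      comul (R := k) (MvPolynomial.aeval Fr.w p) := by
  have h : (Algebra.TensorProduct.map (MvPolynomial.aeval (R := k) Fr.w) (AlgHom.id k A)).comp Fr.subst =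
      (Bialgebra.comulAlgHom k A).comp (MvPolynomial.aeval Fr.w) := by
    refine MvPolynomial.algHom_ext fun l => ?_
    simp [subst, Fr.hc]
  exact DFunLike.congr_fun h p

theorem prod_pow_mem (α : Fin Fr.N →₀ ℕ) :
    (∏ j, Fr.e j ^ α j) ∈ D.F (∑ j, (α j : ℤ) * Fr.d j) := by
  have hp : ∀ (j : Fin Fr.N) (m : ℕ), Fr.e j ^ m ∈ D.F ((m : ℤ) * Fr.d j) := fun j m => by
    induction m with
    | zero => simpa using D.one_mem_F
    | succ m ih =>
      rw [pow_succ, Nat.cast_succ, add_mul, one_mul]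
      exact D.mul_mem_F ih (Fr.e_mem j)
  refine Finset.induction_on (motive := fun s => (∏ j ∈ s, Fr.e j ^ α j) ∈ D.F (∑ j ∈ s, (α j : ℤ) * Fr.d j))
    Finset.univ (by simpa using D.one_mem_F) fun j s hj ih => ?_
  rw [Finset.prod_insert hj, Finset.sum_insert hj]
  exact D.mul_mem_F (hp j _) ih

/-- the filtration is generated by the monomials in a generating adapted basis -/
theorem mem_span_monomials (hG : HopfRep.IsLinearlyReductive k A)
    (hgen : Function.Surjective (MvPolynomial.aeval (R := k) Fr.w)) {a : A} {n : ℤ} (hn : a ∈ D.F n) :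
    a ∈ Submodule.span k ((fun α : Fin Fr.N →₀ ℕ => ∏ j, Fr.e j ^ α j) '' {α | n ≤ ∑ j, (α j : ℤ) * Fr.d j}) := by
  classical
  obtain ⟨x, y, hx, hρ⟩ := hn
  obtain ⟨sx, hsx⟩ := TensorProduct.exists_finset x
  let pre := Function.surjInv hgen
  letI : Comod k A (MvPolynomial (Fin Fr.N) k) := Fr.substComod
  obtain ⟨U, hU, hsU, hUs⟩ := Groth.Agent.HopfLib.exists_finite_subcomod (k := k) (A := A)
    (V := MvPolynomial (Fin Fr.N) k) (↑((insert a (sx.image Prod.fst)).image pre)) (Finset.finite_toSet _)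
  let q := (MvPolynomial.aeval (R := k) Fr.w).toLinearMap
  have hqhom : Hoch.IsComodHom A q := LinearMap.ext fun p => (Fr.aeval_subst p).symm
  letI : Comod k A U := ComodSub.Comod.restr inferInstance U hUs
  have hUhom := ComodSub.isComodHom_subtype (inferInstance : Comod k A (MvPolynomial (Fin Fr.N) k)) U hUs
  let K : Submodule k U := LinearMap.ker (q ∘ₗ U.subtype)
  obtain ⟨K', hK', hcompl⟩ := hG U hU K (Groth.Agent.HopfLib.isSubcomod_ker
    (Groth.Agent.HopfLib.IsComodHom.comp hqhom hUhom))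
  let qK : K' →ₗ[k] A := (q ∘ₗ U.subtype).domRestrict K'
  have hinj : Function.Injective qK := fun u v huv => by
    refine Subtype.ext (sub_eq_zero.1 ((Submodule.disjoint_def.1 hcompl.disjoint) ((u : U) - (v : U)) ?_
      (K'.sub_mem u.2 v.2)))
    show (q ∘ₗ U.subtype) ((u : U) - (v : U)) = 0
    rw [map_sub]
    exact sub_eq_zero.2 huv
  let eK := LinearEquiv.ofInjective qK hinj
  obtain ⟨s, hs'⟩ := (U.subtype ∘ₗ K'.subtype ∘ₗ (eK.symm : LinearMap.range qK →ₗ[k] K')).exists_extend
  have hqU : ∀ p ∈ U, ∃ u : K', q p = q (u : U) := fun p hp => by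
    obtain ⟨u, hu, v, hv, huv⟩ := Submodule.mem_sup.1
      (show (⟨p, hp⟩ : U) ∈ K ⊔ K' from hcompl.sup_eq_top ▸ Submodule.mem_top)
    refine ⟨⟨v, hv⟩, ?_⟩
    have := congrArg (fun z : U => q (z : MvPolynomial (Fin Fr.N) k)) huv
    simp only [Submodule.coe_add, map_add] at this
    rw [← this, show q (u : MvPolynomial (Fin Fr.N) k) = 0 from hu, zero_add]
  have hs : ∀ u : K', s (q (u : U)) = (u : U) := fun u => by
    have := LinearMap.congr_fun hs' (eK u)
    simp only [LinearMap.coe_comp, Function.comp_apply, LinearEquiv.coe_coe, LinearEquiv.symm_apply_apply,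
      Submodule.subtype_apply] at this
    exact this
  have hsec : ∀ p ∈ U, q (s (q p)) = q p ∧ Fr.subst (s (q p)) = s.rTensor A (comul (R := k) (q p)) := by
    intro p hp
    obtain ⟨u, hu⟩ := hqU p hp
    rw [hu, hs]
    refine ⟨rfl, ?_⟩
    obtain ⟨t, ht⟩ := Groth.Agent.HopfLib.isSubcomod_map hUhom hK' ((u : U) : MvPolynomial (Fin Fr.N) k)
      ⟨u, u.2, rfl⟩
    have ht' : Fr.subst ((u : U) : MvPolynomial (Fin Fr.N) k) = (K'.map U.subtype).subtype.rTensor A t := ht.symm
    rw [show q ((u : U) : MvPolynomial (Fin Fr.N) k) = MvPolynomial.aeval Fr.w ((u : U) : MvPolynomial (Fin Fr.N) k)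
      from rfl, ← Fr.aeval_subst, ht']
    clear ht ht'
    induction t using TensorProduct.induction_on with
    | zero => simp
    | add a b ha hb => simp only [map_add, ← ha, ← hb]
    | tmul z b =>
      obtain ⟨z', hz', hze⟩ := z.2
      simp only [LinearMap.rTensor_tmul, Submodule.subtype_apply, ← hze]
      rw [show (MvPolynomial.aeval Fr.w).toLinearMap (z' : MvPolynomial (Fin Fr.N) k) = q (z' : U) from rfl,
        hs ⟨z', hz'⟩]
  have hmem : ∀ z ∈ insert a (sx.image Prod.fst), ∃ p ∈ U, q p = z := fun z hz =>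
    ⟨pre z, hsU (Finset.mem_coe.2 (Finset.mem_image_of_mem _ hz)), Function.surjInv_eq hgen z⟩
  let xh : (MvPolynomial (Fin Fr.N) k) ⊗[k] D.O := s.rTensor D.O x
  let yh : (MvPolynomial (Fin Fr.N) k) ⊗[k] D.O := s.rTensor D.O y
  let inclS : (MvPolynomial (Fin Fr.N) k) ⊗[k] D.O →ₐ[k] (MvPolynomial (Fin Fr.N) k) ⊗[k] D.L :=
    Algebra.TensorProduct.map (AlgHom.id k (MvPolynomial (Fin Fr.N) k)) (IsScalarTower.toAlgHom k D.O D.L)
  let ρS : (MvPolynomial (Fin Fr.N) k) ⊗[k] D.L →ₐ[k] (MvPolynomial (Fin Fr.N) k) ⊗[k] D.L :=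
    Algebra.TensorProduct.lift ((Algebra.TensorProduct.map (AlgHom.id k (MvPolynomial (Fin Fr.N) k)) D.h).comp Fr.subst)
      Algebra.TensorProduct.includeRight fun _ _ => Commute.all _ _
  have hρs : ρS (inclS xh) = (1 ⊗ₜ[k] (algebraMap D.O D.L D.ϖ ^ n)) * inclS yh := by
    have hmulR : ∀ (t : A ⊗[k] D.L) (o : D.L),
        s.rTensor D.L (t * (1 ⊗ₜ[k] o)) = s.rTensor D.L t * (1 ⊗ₜ[k] o) := fun t o => by
      induction t with
      | zero => simp
      | add a b ha hb => simp only [add_mul, map_add, ha, hb]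
      | tmul a b => simp
    have hinclr : ∀ t : A ⊗[k] D.O, s.rTensor D.L (D.incl t) = inclS (s.rTensor D.O t) := fun t => by
      induction t with
      | zero => simp
      | add a b ha hb => simp only [map_add, ha, hb]
      | tmul a b => simp [inclS]
    rw [← hinclr y, ← mul_comm (s.rTensor D.L _), ← hmulR, mul_comm (D.incl y)]
    refine Eq.trans ?_ (congrArg (s.rTensor D.L) hρ)
    rw [show xh = s.rTensor D.O x from rfl, hsx]
    simp only [map_sum, LinearMap.rTensor_tmul, Curve.incl_tmul, Curve.ρ_tmul]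
    refine Finset.sum_congr rfl fun p hp => ?_
    obtain ⟨z, hzU, hz⟩ := hmem p.1 (Finset.mem_insert_of_mem (Finset.mem_image_of_mem _ hp))
    simp only [inclS, ρS, Algebra.TensorProduct.map_tmul, Algebra.TensorProduct.lift_tmul, AlgHom.coe_id, id_eq,
      AlgHom.comp_apply, Algebra.TensorProduct.includeRight_apply, IsScalarTower.coe_toAlgHom']
    rw [hmulR, ← hz, (hsec z hzU).2]
    generalize comul (R := k) (q z) = t
    induction t using TensorProduct.induction_on with
    | zero => simp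
    | add a b ha hb => simp only [map_add, add_mul, ha, hb]
    | tmul a b => simp
  let ψ : (R : Type u) → [CommRing R] → [Algebra k R] → Matrix (Fin Fr.N) (Fin Fr.N) R →
      ((MvPolynomial (Fin Fr.N) k) ⊗[k] R →ₐ[k] MvPolynomial (Fin Fr.N) R) := fun R _ _ M =>
    Algebra.TensorProduct.lift (MvPolynomial.aeval fun l => ∑ j, MvPolynomial.C (M j l) * MvPolynomial.X j)
      (IsScalarTower.toAlgHom k R (MvPolynomial (Fin Fr.N) R)) fun _ _ => Commute.all _ _
  let toL : MvPolynomial (Fin Fr.N) D.O →ₐ[k] MvPolynomial (Fin Fr.N) D.L :=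
    MvPolynomial.mapAlgHom (IsScalarTower.toAlgHom k D.O D.L)
  let δ : MvPolynomial (Fin Fr.N) D.L →ₐ[D.L] MvPolynomial (Fin Fr.N) D.L :=
    MvPolynomial.aeval fun j => MvPolynomial.C (algebraMap D.O D.L D.ϖ ^ Fr.d j) * MvPolynomial.X j
  have hQC : Fr.Q'.map (algebraMap D.O D.L) * Fr.c.map D.h =
      Matrix.diagonal (fun j => algebraMap D.O D.L D.ϖ ^ Fr.d j) * Fr.P'.map (algebraMap D.O D.L) := by
    have h := congrArg (fun M => Fr.Q'.map (algebraMap D.O D.L) * M * Fr.P'.map (algebraMap D.O D.L)) Fr.hsmith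
    rwa [Matrix.mul_assoc, Matrix.mul_assoc (Fr.c.map D.h), ← Matrix.map_mul, Fr.hPP',
      Matrix.map_one _ (map_zero _) (map_one _), Matrix.mul_one, ← Matrix.mul_assoc (Fr.Q'.map _), ← Matrix.map_mul,
      Fr.hQ'Q, Matrix.map_one _ (map_zero _) (map_one _), Matrix.one_mul] at h
  have key : (ψ D.L (Fr.Q'.map (algebraMap D.O D.L))).comp (ρS.comp inclS) =
      (δ.restrictScalars k).comp (toL.comp (ψ D.O Fr.P')) := by
    refine Algebra.TensorProduct.ext (MvPolynomial.algHom_ext fun l => ?_) (AlgHom.ext fun o => ?_)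
    · simp only [ψ, ρS, inclS, toL, δ, AlgHom.comp_apply, Algebra.TensorProduct.includeLeft_apply,
        Algebra.TensorProduct.map_tmul, Algebra.TensorProduct.lift_tmul, subst, MvPolynomial.aeval_X, map_sum,
        AlgHom.coe_id, id_eq, map_one, mul_one, Algebra.TensorProduct.includeRight_apply,
        IsScalarTower.coe_toAlgHom', AlgHom.restrictScalars_apply, map_mul, MvPolynomial.mapAlgHom_apply,
        MvPolynomial.map_C, MvPolynomial.map_X, MvPolynomial.aeval_C, MvPolynomial.algebraMap_eq, Finset.sum_mul,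
        ← Algebra.TensorProduct.one_def]
      rw [Finset.sum_comm]
      refine Finset.sum_congr rfl fun j _ => ?_
      have h := congrFun (congrFun hQC j) l
      rw [Matrix.diagonal_mul] at h
      simp only [Matrix.mul_apply, Matrix.map_apply] at h
      refine Eq.trans ?_ (congrArg (fun z => MvPolynomial.C z * MvPolynomial.X j) h |>.trans ?_)
      · simp only [map_sum, Finset.sum_mul, map_mul]
        exact Finset.sum_congr rfl fun m _ => by simp only [Matrix.map_apply]; ring
      · rw [mul_comm (algebraMap D.O D.L D.ϖ ^ Fr.d j), map_mul, mul_assoc]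
        rfl
    · simp [ψ, ρS, inclS, toL, δ]
  have hQO : ∀ t, ψ D.L (Fr.Q'.map (algebraMap D.O D.L)) (inclS t) = toL (ψ D.O Fr.Q' t) := fun t => by
    refine DFunLike.congr_fun (f := (ψ D.L (Fr.Q'.map (algebraMap D.O D.L))).comp inclS)
      (g := toL.comp (ψ D.O Fr.Q')) ?_ t
    refine Algebra.TensorProduct.ext (MvPolynomial.algHom_ext fun l => ?_) (AlgHom.ext fun o => ?_)
    · simp [ψ, inclS, toL]
    · simp [ψ, inclS, toL]
  have hδ : ∀ (p : MvPolynomial (Fin Fr.N) D.L) (α : Fin Fr.N →₀ ℕ),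
      MvPolynomial.coeff α (δ p) = algebraMap D.O D.L D.ϖ ^ (∑ j, (α j : ℤ) * Fr.d j) * MvPolynomial.coeff α p := by
    intro p α
    induction p using MvPolynomial.induction_on' with
    | monomial β c =>
      simp only [δ, MvPolynomial.aeval_monomial, MvPolynomial.algebraMap_eq]
      rw [Finsupp.prod_fintype _ _ (fun _ => pow_zero _)]
      simp only [mul_pow, Finset.prod_mul_distrib, ← map_pow, ← map_prod]
      rw [← mul_assoc, ← map_mul, ← Finsupp.prod_fintype β (fun j m => (MvPolynomial.X j : MvPolynomial (Fin Fr.N) D.L) ^ m)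
        (fun _ => pow_zero _), ← MvPolynomial.monomial_eq,
        MvPolynomial.coeff_monomial, MvPolynomial.coeff_monomial]
      by_cases hαβ : β = α
      · subst hαβ
        simp only [if_true]
        have hsum : ∀ s : Finset (Fin Fr.N), algebraMap D.O D.L D.ϖ ^ (∑ j ∈ s, (β j : ℤ) * Fr.d j) =
            ∏ j ∈ s, (algebraMap D.O D.L D.ϖ ^ Fr.d j) ^ β j := fun s => by
          induction s using Finset.induction_on with
          | empty => simp
          | insert a s ha ih =>
            rw [Finset.sum_insert ha, Finset.prod_insert ha, zpow_add₀ D.hϖ0, ih, mul_comm (β a : ℤ), _root_.zpow_mul,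
              zpow_natCast]
        rw [hsum, mul_comm]
      · simp [hαβ]
    | add p q hp hq => simp only [map_add, MvPolynomial.coeff_add, hp, hq, mul_add]
  have hcoef : ∀ α : Fin Fr.N →₀ ℕ, (∑ j, (α j : ℤ) * Fr.d j) < n →
      D.res (MvPolynomial.coeff α (ψ D.O Fr.P' xh)) = 0 := by
    intro α hα
    have h := congrArg (fun t => MvPolynomial.coeff α (ψ D.L (Fr.Q'.map (algebraMap D.O D.L)) t)) hρs
    simp only [map_mul, hQO] at h
    have h' : MvPolynomial.coeff α ((δ.restrictScalars k) (toL (ψ D.O Fr.P' xh))) = _ :=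
      (congrArg (MvPolynomial.coeff α) (DFunLike.congr_fun key xh).symm).trans h
    rw [AlgHom.restrictScalars_apply, hδ, show ψ D.L (Fr.Q'.map (algebraMap D.O D.L))
        (1 ⊗ₜ[k] (algebraMap D.O D.L D.ϖ ^ n)) = MvPolynomial.C (algebraMap D.O D.L D.ϖ ^ n) by simp [ψ],
      MvPolynomial.coeff_C_mul] at h'
    simp only [toL, MvPolynomial.mapAlgHom_apply, MvPolynomial.coeff_map, RingHom.coe_coe,
      IsScalarTower.coe_toAlgHom'] at h'
    set m := ∑ j, (α j : ℤ) * Fr.d j
    refine D.mem_ker_res ⟨D.ϖ ^ (n - m - 1).toNat * MvPolynomial.coeff α (ψ D.O Fr.Q' yh),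
      IsFractionRing.injective D.O D.L ?_⟩
    refine mul_left_cancel₀ (zpow_ne_zero m D.hϖ0) ?_
    refine h'.trans ?_
    rw [map_mul, map_mul, map_pow, ← zpow_natCast, ← mul_assoc, ← mul_assoc,
      ← zpow_add_one₀ D.hϖ0, ← zpow_add₀ D.hϖ0, Int.toNat_of_nonneg (by omega)]
    congr 2
    ring
  have hredS : MvPolynomial.aeval Fr.e (MvPolynomial.map D.res.toRingHom (ψ D.O Fr.P' xh)) =
      q ((TensorProduct.rid k (MvPolynomial (Fin Fr.N) k)) (D.res.toLinearMap.lTensor (MvPolynomial (Fin Fr.N) k) xh)) := by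
    refine DFunLike.congr_fun
      (f := ((MvPolynomial.aeval (R := k) Fr.e).comp (MvPolynomial.mapAlgHom D.res)).comp (ψ D.O Fr.P'))
      (g := (MvPolynomial.aeval (R := k) Fr.w).comp
        ((Algebra.TensorProduct.rid k k (MvPolynomial (Fin Fr.N) k)).toAlgHom.comp (Algebra.TensorProduct.map (AlgHom.id k (MvPolynomial (Fin Fr.N) k)) D.res))) ?_ xh
    refine Algebra.TensorProduct.ext (MvPolynomial.algHom_ext fun l => ?_) (AlgHom.ext fun o => ?_)
    · simp [ψ, Fr.w_eq l, pb', Algebra.smul_def]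
    · simp [ψ, Algebra.smul_def]
  have hqsa : q ((TensorProduct.rid k (MvPolynomial (Fin Fr.N) k)) (D.res.toLinearMap.lTensor (MvPolynomial (Fin Fr.N) k) xh)) = a := by
    have hc2 : (TensorProduct.rid k (MvPolynomial (Fin Fr.N) k)) (D.res.toLinearMap.lTensor (MvPolynomial (Fin Fr.N) k) xh) = s (D.red x) := by
      show (TensorProduct.rid k (MvPolynomial (Fin Fr.N) k)) (D.res.toLinearMap.lTensor (MvPolynomial (Fin Fr.N) k) (s.rTensor D.O x)) = _
      rw [hsx]
      simp [map_sum]
    obtain ⟨z, hzU, hz⟩ := hmem a (Finset.mem_insert_self _ _)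
    rw [hc2, hx, ← hz, (hsec z hzU).1]
  rw [← hqsa, ← hredS, MvPolynomial.as_sum (MvPolynomial.map D.res.toRingHom (ψ D.O Fr.P' xh)), map_sum]
  refine sum_mem fun α hα => ?_
  rw [MvPolynomial.mem_support_iff, MvPolynomial.coeff_map] at hα
  have hαn : n ≤ ∑ j, (α j : ℤ) * Fr.d j := not_lt.1 fun hlt => hα (hcoef α hlt)
  rw [MvPolynomial.aeval_monomial, ← Algebra.smul_def, Finsupp.prod_fintype _ _ (fun _ => pow_zero _)]
  exact Submodule.smul_mem _ _ (Submodule.subset_span ⟨α, hαn, rfl⟩)

end Frame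

end Groth.Agent.HMCrit29
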