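import Groth.Agent.HMCrit29.Rees
import Mathlib.RingTheory.Bialgebra.MonoidAlgebra

/-! # The cocharacter attached to a point of the fibre over zero -/

set_option autoImplicit false
set_option backward.isDefEq.respectTransparency.types false

noncomputable section

open TensorProduct LaurentPolynomial
open HopfRep (Comod IsSubcomod)
open CoalgebraStruct (comul counit)

namespace Groth.Agent.HMCrit29

universe u

variable {k : Type u} [Field k] {A : Type u} [CommRing A] [HopfAlgebra k A]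

/-- an algebra map with values in the image of an injective one -/
theorem exists_factor {B C C' : Type u} [CommRing B] [Algebra k B] [CommRing C] [Algebra k C] [CommRing C'] [Algebra k C']
    (f : B →ₐ[k] C) (i : C' →ₐ[k] C) (hi : Function.Injective i) (h : ∀ b, f b ∈ i.range) :
    ∃ g : B →ₐ[k] C', i.comp g = f := by
  refine ⟨((AlgEquiv.ofInjective i hi).symm : i.range →ₐ[k] C').comp (f.codRestrict i.range h), AlgHom.ext fun b => ?_⟩
  exact congrArg Subtype.val ((AlgEquiv.ofInjective i hi).apply_symm_apply ⟨f b, h b⟩)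

def el (n : ℤ) (a : A) : A[T;T⁻¹] := LaurentPolynomial.C a * T (-n)

theorem el_eq_single (n : ℤ) (a : A) : el n a = AddMonoidAlgebra.single (-n) a :=
  (LaurentPolynomial.single_eq_C_mul_T a (-n)).symm

theorem coeff_el (n m : ℤ) (a : A) : (el n a).coeff m = if -n = m then a else 0 := by
  rw [el_eq_single, AddMonoidAlgebra.coeff_single, Finsupp.single_apply]

theorem el_add (n : ℤ) (a b : A) : el n (a + b) = el n a + el n b := by simp [el, add_mul]
theorem el_zero (n : ℤ) : el n (0 : A) = 0 := by simp [el]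
theorem el_smul (n : ℤ) (c : k) (a : A) : el n (c • a) = c • el n a := by
  rw [Algebra.smul_def, Algebra.smul_def, LaurentPolynomial.algebraMap_apply, el, el, map_mul, mul_assoc]
theorem el_sum {ι : Type*} (s : Finset ι) (n : ℤ) (a : ι → A) : el n (∑ i ∈ s, a i) = ∑ i ∈ s, el n (a i) := by
  simp [el, Finset.sum_mul]
theorem el_mul (m n : ℤ) (a b : A) : el m a * el n b = el (m + n) (a * b) := by
  simp only [el, map_mul, neg_add, T_add]; ring
theorem el_one_zero : el 0 (1 : A) = 1 := by simp [el]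
theorem el_pow (m : ℤ) (a : A) (i : ℕ) : el m a ^ i = el (i * m) (a ^ i) := by
  induction i with
  | zero => simp [el_one_zero]
  | succ i ih => rw [pow_succ, ih, el_mul, pow_succ, Nat.cast_succ, add_mul, one_mul]

namespace Curve

variable (D : Curve k A)

def reesSub : Submodule k A[T;T⁻¹] := Submodule.span k {p | ∃ (n : ℤ) (a : A), a ∈ D.F n ∧ el n a = p}

/-- the Rees algebra -/
def Rees : Subalgebra k A[T;T⁻¹] :=
  D.reesSub.toSubalgebra (Submodule.subset_span ⟨0, 1, D.one_mem_F, el_one_zero⟩) fun x y hx hy => by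
    have hle : D.reesSub * D.reesSub ≤ D.reesSub := by
      rw [reesSub, Submodule.span_mul_span]
      refine Submodule.span_le.2 ?_
      rintro _ ⟨_, ⟨m, a, ha, rfl⟩, _, ⟨n, b, hb, rfl⟩, rfl⟩
      exact Submodule.subset_span ⟨m + n, a * b, D.mul_mem_F ha hb, (el_mul m n a b).symm⟩
    exact hle (Submodule.mul_mem_mul hx hy)

theorem el_mem {n : ℤ} {a : A} (ha : a ∈ D.F n) : el n a ∈ D.Rees := Submodule.subset_span ⟨n, a, ha, rfl⟩

theorem coeff_mem {p : A[T;T⁻¹]} (hp : p ∈ D.Rees) (m : ℤ) : p.coeff m ∈ D.F (-m) := by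
  refine Submodule.span_induction (p := fun p _ => p.coeff m ∈ D.F (-m)) ?_ (by simp) ?_ ?_ (show p ∈ D.reesSub from hp)
  · rintro _ ⟨n, a, ha, rfl⟩
    rw [coeff_el]
    split_ifs with h
    · rwa [← h, neg_neg]
    · exact zero_mem _
  · intro x y _ _ hx hy; simpa using add_mem hx hy
  · intro c x _ hx; simpa using Submodule.smul_mem _ c hx

theorem sum_el (p : A[T;T⁻¹]) : p = ∑ m ∈ p.coeff.support, el (-m) (p.coeff m) := by
  refine LaurentPolynomial.ext fun m => ?_
  rw [AddMonoidAlgebra.coeff_sum, Finsupp.finsetSum_apply]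
  simp [coeff_el, Finset.sum_ite_eq']

def elR {n : ℤ} {a : A} (ha : a ∈ D.F n) : D.Rees := ⟨el n a, D.el_mem ha⟩

theorem one_mem_F_neg : (1 : A) ∈ D.F (-1) := D.F_le (by norm_num) D.one_mem_F

def τ : D.Rees := D.elR D.one_mem_F_neg

theorem τ_pow_mul (i : ℕ) (n : ℤ) (a : A) : (D.τ : A[T;T⁻¹]) ^ i * el n a = el (n - i) a := by
  show el (-1) 1 ^ i * el n a = _
  rw [el_pow, el_mul, one_pow, one_mul]
  congr 1
  ring

/-- the trivial frame -/
def oneFrame : Frame D where
  N := 1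
  w _ := 1
  indep := by
    haveI : Nontrivial A := RingHom.domain_nontrivial D.h.toRingHom
    exact linearIndependent_unique_iff.2 one_ne_zero
  c := 1
  hc l := by
    rw [Fin.sum_univ_one, Subsingleton.elim l 0, Matrix.one_apply_eq, Bialgebra.comul_one, Algebra.TensorProduct.one_def]
  P := 1
  P' := 1
  Q := 1
  Q' := 1
  d _ := 0
  hPP' := one_mul _
  hP'P := one_mul _
  hQQ' := one_mul _
  hQ'Q := one_mul _
  hsmith := by simp

theorem not_isUnit_τ (hG : HopfRep.IsLinearlyReductive k A) : ¬ IsUnit D.τ := by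
  intro h
  obtain ⟨r, hr⟩ := h.exists_right_inv
  have h1 : (r : A[T;T⁻¹]) = el 1 1 := by
    have := congrArg (fun z : D.Rees => el 1 1 * (z : A[T;T⁻¹])) hr
    simp only [Subalgebra.coe_mul, Subalgebra.coe_one, mul_one] at this
    rwa [show (D.τ : A[T;T⁻¹]) = el (-1) 1 from rfl, ← mul_assoc, el_mul, one_mul,
      show (1 : ℤ) + -1 = 0 by norm_num, el_one_zero, one_mul] at this
  have h2 := D.coeff_mem r.2 (-1)
  rw [h1, coeff_el, if_pos rfl, neg_neg] at h2
  have h3 := D.oneFrame.mem_span_of_mem_F hG (Submodule.subset_span ⟨(0 : Fin 1), rfl⟩) h2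
  rw [show {j : Fin D.oneFrame.N | (1 : ℤ) ≤ D.oneFrame.d j} = ∅ from Set.eq_empty_of_forall_notMem fun j (hj : (1 : ℤ) ≤ 0) => by omega] at h3
  haveI : Nontrivial A := RingHom.domain_nontrivial D.h.toRingHom
  simp [oneFrame] at h3

theorem exists_gen_frame [Algebra.FiniteType k A] :
    ∃ Fr : Frame D, Function.Surjective (MvPolynomial.aeval (R := k) Fr.w) := by
  obtain ⟨s, hs⟩ := Algebra.FiniteType.out (R := k) (A := A)
  obtain ⟨Fr, hFr⟩ := Frame.exists_frame D s.finite_toSet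
  refine ⟨Fr, (AlgHom.range_eq_top _).1 (_root_.eq_top_iff.2 (hs ▸ Algebra.adjoin_le fun z hz => ?_))⟩
  have hle : Submodule.span k (Set.range Fr.w) ≤
      Subalgebra.toSubmodule (MvPolynomial.aeval (R := k) Fr.w).range :=
    Submodule.span_le.2 (by rintro _ ⟨l, rfl⟩; exact ⟨MvPolynomial.X l, MvPolynomial.aeval_X _ _⟩)
  exact hle (hFr hz)

theorem finiteType_rees [Algebra.FiniteType k A] (hG : HopfRep.IsLinearlyReductive k A) :
    Algebra.FiniteType k D.Rees := by
  classical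
  obtain ⟨Fr, hgen⟩ := D.exists_gen_frame
  let g : Option (Fin Fr.N) → D.Rees := fun o => o.elim D.τ fun j => D.elR (Fr.e_mem j)
  refine ⟨⟨Finset.univ.image g, _root_.eq_top_iff.2 ?_⟩⟩
  rintro ⟨p, hp⟩ -
  let B := (Algebra.adjoin k (↑(Finset.univ.image g) : Set D.Rees)).map D.Rees.val
  have hτ : (D.τ : A[T;T⁻¹]) ∈ B := ⟨D.τ, Algebra.subset_adjoin (Finset.mem_image.2 ⟨none, Finset.mem_univ _, rfl⟩), rfl⟩
  have he : ∀ j, el (Fr.d j) (Fr.e j) ∈ B := fun j =>
    ⟨D.elR (Fr.e_mem j), Algebra.subset_adjoin (Finset.mem_image.2 ⟨some j, Finset.mem_univ _, rfl⟩), rfl⟩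
  suffices hB : ∀ (n : ℤ) (a : A), a ∈ D.F n → el n a ∈ B by
    have hpB : p ∈ B := by
      rw [sum_el p]
      exact sum_mem fun m _ => hB _ _ (D.coeff_mem hp m)
    obtain ⟨q, hq, hqp⟩ := hpB
    have : q = (⟨p, hp⟩ : D.Rees) := Subtype.ext hqp
    exact this ▸ hq
  intro n a ha
  refine Submodule.span_induction (p := fun a _ => el n a ∈ B) ?_ (by rw [el_zero]; exact zero_mem _)
    (fun x y _ _ hx hy => by rw [el_add]; exact add_mem hx hy)
    (fun c x _ hx => by rw [el_smul]; exact B.smul_mem hx c) (Fr.mem_span_monomials hG hgen ha)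
  rintro _ ⟨α, hα, rfl⟩
  have hprod : ∀ s : Finset (Fin Fr.N), ∏ j ∈ s, el (Fr.d j) (Fr.e j) ^ α j =
      el (∑ j ∈ s, (α j : ℤ) * Fr.d j) (∏ j ∈ s, Fr.e j ^ α j) := fun s => by
    induction s using Finset.induction_on with
    | empty => simp [el_one_zero]
    | insert j s hj ih => rw [Finset.prod_insert hj, ih, el_pow, el_mul, Finset.sum_insert hj, Finset.prod_insert hj]
  have := mul_mem (pow_mem hτ ((∑ j, (α j : ℤ) * Fr.d j) - n).toNat)
    (prod_mem (fun j (_ : j ∈ Finset.univ) => pow_mem (he j) (α j)))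
  rwa [hprod, D.τ_pow_mul, Int.toNat_of_nonneg (by simpa using hα), sub_sub_cancel] at this

theorem exists_point [IsAlgClosed k] [Algebra.FiniteType k A] (hG : HopfRep.IsLinearlyReductive k A) :
    ∃ y : D.Rees →ₐ[k] k, y D.τ = 0 := by
  haveI := D.finiteType_rees hG
  obtain ⟨y, hy⟩ := Groth.Agent.HopfLib.exists_algHom_le_ker (k := k) (R := D.Rees) (I := Ideal.span {D.τ})
    (by rw [Ne, Ideal.span_singleton_eq_top]; exact D.not_isUnit_τ hG)
  exact ⟨y, RingHom.mem_ker.1 (hy (Ideal.mem_span_singleton_self _))⟩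

theorem τ_pow_mul_elR (i : ℕ) {m n : ℤ} {a : A} (hm : a ∈ D.F m) (hn : a ∈ D.F n) (h : m = n - i) :
    D.elR hm = D.τ ^ i * D.elR hn := by
  refine Subtype.ext ?_
  show el m a = ((D.τ ^ i : D.Rees) : A[T;T⁻¹]) * el n a
  rw [Subalgebra.coe_pow, D.τ_pow_mul, h]

/-- coordinates of the coaction by left translations -/
def ΔT : A[T;T⁻¹] →ₐ[k] A ⊗[k] A[T;T⁻¹] :=
  AddMonoidAlgebra.liftNCAlgHom
    ((Algebra.TensorProduct.map (AlgHom.id k A) (IsScalarTower.toAlgHom k A A[T;T⁻¹])).comp (Bialgebra.comulAlgHom k A))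
    { toFun := fun m => 1 ⊗ₜ[k] T m.toAdd
      map_one' := by rw [toAdd_one, T_zero]; rfl
      map_mul' := fun a b => by rw [toAdd_mul, T_add, Algebra.TensorProduct.tmul_mul_tmul, one_mul] }
    fun _ _ => Commute.all _ _

theorem ΔT_el {n : ℤ} {a : A} {ι : Type*} [Fintype ι] (u v : ι → A) (h : comul (R := k) a = ∑ i, u i ⊗ₜ[k] v i) :
    ΔT (k := k) (el n a) = ∑ i, u i ⊗ₜ[k] el n (v i) := by
  rw [el_eq_single, ΔT, AddMonoidAlgebra.coe_liftNCAlgHom, AddMonoidAlgebra.liftNC_single]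
  show (Algebra.TensorProduct.map (AlgHom.id k A) (IsScalarTower.toAlgHom k A A[T;T⁻¹])).comp
    (Bialgebra.comulAlgHom k A) a * (1 ⊗ₜ[k] T (-n)) = _
  simp only [AlgHom.comp_apply, Bialgebra.comulAlgHom_apply, h, map_sum, Finset.sum_mul,
    Algebra.TensorProduct.map_tmul, Algebra.TensorProduct.tmul_mul_tmul, mul_one, AlgHom.coe_id, id_eq]
  rfl

theorem exists_ΔR [Algebra.FiniteType k A] (hG : HopfRep.IsLinearlyReductive k A) :
    ∃ ΔR : D.Rees →ₐ[k] A ⊗[k] D.Rees,
      (Algebra.TensorProduct.map (AlgHom.id k A) D.Rees.val).comp ΔR = (ΔT (A := A)).comp D.Rees.val := by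
  refine exists_factor _ _ ?_ ?_
  · exact Module.Flat.lTensor_preserves_injective_linearMap (M := A) D.Rees.val.toLinearMap Subtype.val_injective
  rintro ⟨p, hp⟩
  refine Submodule.span_induction (p := fun p _ => ΔT (k := k) p ∈
    (Algebra.TensorProduct.map (AlgHom.id k A) D.Rees.val).range) ?_ (by simp)
    (fun x y _ _ hx hy => by rw [map_add]; exact add_mem hx hy)
    (fun c x _ hx => by rw [map_smul]; exact Subalgebra.smul_mem _ hx c) (show p ∈ D.reesSub from hp)
  rintro _ ⟨n, a, ha, rfl⟩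
  obtain ⟨Fr, hFr⟩ := Frame.exists_frame D (Set.finite_singleton a)
  refine Submodule.span_induction (p := fun a _ => ΔT (k := k) (el n a) ∈
    (Algebra.TensorProduct.map (AlgHom.id k A) D.Rees.val).range) ?_ (by simp [el_zero])
    (fun x y _ _ hx hy => by rw [el_add, map_add]; exact add_mem hx hy)
    (fun c x _ hx => by rw [el_smul, map_smul]; exact Subalgebra.smul_mem _ hx c)
    (Fr.mem_span_of_mem_F hG (hFr rfl) ha)
  rintro _ ⟨j, hj, rfl⟩
  rw [ΔT_el Fr.w (fun i => Fr.cp i j) (Fr.comul_e j)]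
  exact sum_mem fun i _ => ⟨Fr.w i ⊗ₜ[k] D.elR (D.F_le hj (Fr.cp_mem i j)), rfl⟩

/-- the grading -/
def GT : A[T;T⁻¹] →ₐ[k] A[T;T⁻¹] ⊗[k] k[T;T⁻¹] :=
  AddMonoidAlgebra.liftNCAlgHom
    ((Algebra.TensorProduct.includeLeft : A[T;T⁻¹] →ₐ[k] A[T;T⁻¹] ⊗[k] k[T;T⁻¹]).comp
      (IsScalarTower.toAlgHom k A A[T;T⁻¹]))
    { toFun := fun m => T m.toAdd ⊗ₜ[k] T (-m.toAdd)
      map_one' := by rw [toAdd_one, neg_zero, T_zero, T_zero]; rfl
      map_mul' := fun a b => by rw [toAdd_mul, neg_add, T_add, T_add, Algebra.TensorProduct.tmul_mul_tmul] }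
    fun _ _ => Commute.all _ _

theorem GT_el (n : ℤ) (a : A) : GT (k := k) (el n a) = el n a ⊗ₜ[k] T n := by
  rw [el_eq_single, GT, AddMonoidAlgebra.coe_liftNCAlgHom, AddMonoidAlgebra.liftNC_single]
  show (LaurentPolynomial.C a ⊗ₜ[k] (1 : k[T;T⁻¹])) * (T (-n) ⊗ₜ[k] T (- -n)) = _
  rw [Algebra.TensorProduct.tmul_mul_tmul, one_mul, neg_neg, LaurentPolynomial.single_eq_C_mul_T]

theorem exists_GR : ∃ GR : D.Rees →ₐ[k] D.Rees ⊗[k] k[T;T⁻¹],
      (Algebra.TensorProduct.map D.Rees.val (AlgHom.id k k[T;T⁻¹])).comp GR = (GT (k := k) (A := A)).comp D.Rees.val := by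
  refine exists_factor (C' := D.Rees ⊗[k] k[T;T⁻¹]) ((GT (k := k) (A := A)).comp D.Rees.val) (Algebra.TensorProduct.map D.Rees.val (AlgHom.id k k[T;T⁻¹])) ?_ ?_
  · exact Module.Flat.rTensor_preserves_injective_linearMap (M := k[T;T⁻¹]) D.Rees.val.toLinearMap Subtype.val_injective
  rintro ⟨p, hp⟩
  refine Submodule.span_induction (p := fun p _ => GT (k := k) p ∈
    (Algebra.TensorProduct.map D.Rees.val (AlgHom.id k k[T;T⁻¹])).range) ?_ (by simp)
    (fun x y _ _ hx hy => by rw [map_add]; exact add_mem hx hy)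
    (fun c x _ hx => by rw [map_smul]; exact Subalgebra.smul_mem _ hx c) (show p ∈ D.reesSub from hp)
  rintro _ ⟨n, a, ha, rfl⟩
  rw [GT_el]
  exact ⟨D.elR ha ⊗ₜ[k] T n, rfl⟩

/-- The cocharacter at a point over zero. -/
theorem exists_lam [Algebra.FiniteType k A] (hG : HopfRep.IsLinearlyReductive k A) (y : D.Rees →ₐ[k] k)
    (hy : y D.τ = 0) :
    ∃ (θ : D.Rees →ₐ[k] A) (lam : A →ₐc[k] k[T;T⁻¹]),
      (∀ (n : ℤ) (a : A) (ha : a ∈ D.F n), lam (θ (D.elR ha)) = y (D.elR ha) • T n) ∧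
      (∀ (n : ℤ) (a : A) (ha : a ∈ D.F n) (ι : Type) [Fintype ι] (u v : ι → A) (hv : ∀ i, v i ∈ D.F n),
        comul (R := k) a = ∑ i, u i ⊗ₜ[k] v i → θ (D.elR ha) = ∑ i, y (D.elR (hv i)) • u i) ∧
      Function.Surjective θ ∧ RingHom.ker θ ≤ Ideal.span {D.τ} := by
  classical
  obtain ⟨ΔR, hΔR⟩ := D.exists_ΔR hG
  obtain ⟨GR, hGR⟩ := D.exists_GR
  let θ : D.Rees →ₐ[k] A :=
    (Algebra.TensorProduct.rid k k A).toAlgHom.comp ((Algebra.TensorProduct.map (AlgHom.id k A) y).comp ΔR)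
  let Ψ : D.Rees →ₐ[k] k[T;T⁻¹] :=
    (Algebra.TensorProduct.lid k k[T;T⁻¹]).toAlgHom.comp ((Algebra.TensorProduct.map y (AlgHom.id k _)).comp GR)
  have hθ : ∀ (n : ℤ) (a : A) (ha : a ∈ D.F n) (ι : Type) [Fintype ι] (u v : ι → A) (hv : ∀ i, v i ∈ D.F n),
      comul (R := k) a = ∑ i, u i ⊗ₜ[k] v i → θ (D.elR ha) = ∑ i, y (D.elR (hv i)) • u i := by
    intro n a ha ι _ u v hv h
    have h1 : ΔR (D.elR ha) = ∑ i, u i ⊗ₜ[k] D.elR (hv i) := by
      refine Module.Flat.lTensor_preserves_injective_linearMap (M := A) D.Rees.val.toLinearMap Subtype.val_injective ?_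
      refine (DFunLike.congr_fun hΔR (D.elR ha)).trans ?_
      show ΔT (k := k) (el n a) = _
      rw [ΔT_el u v h, map_sum]
      rfl
    simp [θ, h1]
  have hΨ : ∀ (n : ℤ) (a : A) (ha : a ∈ D.F n), Ψ (D.elR ha) = y (D.elR ha) • T n := by
    intro n a ha
    have h1 : GR (D.elR ha) = D.elR ha ⊗ₜ[k] T n := by
      refine Module.Flat.rTensor_preserves_injective_linearMap (M := k[T;T⁻¹]) D.Rees.val.toLinearMap Subtype.val_injective ?_
      exact (DFunLike.congr_fun hGR (D.elR ha)).trans (GT_el n a)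
    simp [Ψ, h1]
  -- invertibility of the fibre matrices
  have hY : ∀ Fr : Frame D, (Matrix.of fun j i => y (D.elR (Fr.sp_mem j i))) *
      (Matrix.of fun i l => y (D.elR (Fr.cp_mem i l))) = (1 : Matrix (Fin Fr.N) (Fin Fr.N) k) := by
    intro Fr
    ext j l
    have h1 : (∑ i, D.elR (Fr.sp_mem j i) * D.elR (Fr.cp_mem i l) : D.Rees) =
        (if j = l then 1 else 0 : D.Rees) := by
      refine Subtype.ext ?_
      rw [AddSubmonoidClass.coe_finsetSum]
      show ∑ i, el (-Fr.d j) (Fr.sp j i) * el (Fr.d l) (Fr.cp i l) = _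
      simp only [el_mul, ← el_sum]
      have h2 : ∑ i, Fr.sp j i * Fr.cp i l = (1 : Matrix (Fin Fr.N) (Fin Fr.N) A) j l := by
        rw [← Matrix.mul_apply, Fr.sp_mul_cp]
      rw [h2, Matrix.one_apply]
      by_cases hjl : j = l
      · subst hjl; simp [el_one_zero]
      · simp [hjl, el_zero]
    have h3 := congrArg y h1
    simp only [map_sum, map_mul] at h3
    rw [Matrix.mul_apply, Matrix.one_apply]
    simp only [Matrix.of_apply]
    rw [h3]
    split <;> simp
  have hY' : ∀ Fr : Frame D, (Matrix.of fun i l => y (D.elR (Fr.cp_mem i l))) *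
      (Matrix.of fun j i => y (D.elR (Fr.sp_mem j i))) = (1 : Matrix (Fin Fr.N) (Fin Fr.N) k) :=
    fun Fr => mul_eq_one_comm.1 (hY Fr)
  have hθe : ∀ (Fr : Frame D) (j), θ (D.elR (Fr.e_mem j)) = ∑ i, y (D.elR (Fr.cp_mem i j)) • Fr.w i :=
    fun Fr j => hθ _ _ _ _ Fr.w (fun i => Fr.cp i j) (fun i => Fr.cp_mem i j) (Fr.comul_e j)
  have hsurj : Function.Surjective θ := by
    intro a
    obtain ⟨Fr, hFr⟩ := Frame.exists_frame D (Set.finite_singleton a)
    refine (AlgHom.mem_range θ).1 ?_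
    refine (Submodule.span_le (p := Subalgebra.toSubmodule θ.range)).2 ?_ (hFr rfl)
    rintro _ ⟨l, rfl⟩
    have : Fr.w l = ∑ j, y (D.elR (Fr.sp_mem j l)) • θ (D.elR (Fr.e_mem j)) := by
      simp only [hθe, Finset.smul_sum, smul_smul]
      rw [Finset.sum_comm]
      have h := fun i => congrFun (congrFun (hY' Fr) i) l
      simp only [Matrix.mul_apply, Matrix.of_apply] at h
      simp only [← Finset.sum_smul, mul_comm, h, Matrix.one_apply, ite_smul, one_smul, zero_smul,
        Finset.sum_ite_eq', Finset.mem_univ, if_true]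
    rw [this]
    exact sum_mem fun j _ => Subalgebra.smul_mem _ (AlgHom.mem_range_self θ _) _
  have hker : ∀ r, θ r = 0 → Ψ r = 0 ∧ r ∈ Ideal.span {D.τ} := by
    rintro ⟨p, hp⟩ hr
    obtain ⟨Fr, hFr⟩ := Frame.exists_frame D ((p.coeff.support.finite_toSet).image p.coeff)
    have hrep : ∀ m, ∃ β : Fin Fr.N → k, (∀ j, β j ≠ 0 → -m ≤ Fr.d j) ∧ ∑ j, β j • Fr.e j = p.coeff m := by
      intro m
      by_cases hm : m ∈ p.coeff.support
      · obtain ⟨l, hl, hl'⟩ := (Finsupp.mem_span_image_iff_linearCombination k).1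
          (Fr.mem_span_of_mem_F hG (hFr ⟨m, hm, rfl⟩) (D.coeff_mem hp m))
        refine ⟨l, fun j hj => (Finsupp.mem_supported k l).1 hl (Finsupp.mem_support_iff.2 hj), ?_⟩
        rw [← hl', Finsupp.linearCombination_apply]
        exact (Finsupp.sum_fintype l (fun i a => a • Fr.e i) (fun i => zero_smul k (Fr.e i))).symm
      · exact ⟨0, fun j hj => absurd rfl hj, by simp [Finsupp.notMem_support_iff.1 hm]⟩
    choose β hβ hβsum using hrep
    let z : ℤ → Fin Fr.N → D.Rees := fun m j => if -m ≤ Fr.d j then D.τ ^ (Fr.d j + m).toNat * D.elR (Fr.e_mem j) else 0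
    have hdec : (⟨p, hp⟩ : D.Rees) = ∑ m ∈ p.coeff.support, ∑ j, β m j • z m j := by
      refine Subtype.ext ?_
      rw [AddSubmonoidClass.coe_finsetSum]
      refine (sum_el p).trans (Finset.sum_congr rfl fun m _ => ?_)
      rw [AddSubmonoidClass.coe_finsetSum, ← hβsum m, el_sum]
      refine Finset.sum_congr rfl fun j _ => ?_
      rw [el_smul, SetLike.val_smul]
      by_cases h0 : β m j = 0
      · simp [h0]
      · rw [show z m j = D.τ ^ (Fr.d j + m).toNat * D.elR (Fr.e_mem j) from if_pos (hβ m j h0), Subalgebra.coe_mul,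
          Subalgebra.coe_pow]
        show _ = β m j • ((D.τ : A[T;T⁻¹]) ^ _ * el (Fr.d j) (Fr.e j))
        rw [D.τ_pow_mul, Int.toNat_of_nonneg (by have := hβ m j h0; omega), sub_add_eq_sub_sub, sub_self, zero_sub]
    have hτθ : θ D.τ = 0 := by
      rw [show D.τ = D.elR D.one_mem_F_neg from rfl, hθ (-1) 1 _ PUnit.{1} (fun _ => 1) (fun _ => 1) (fun _ => D.one_mem_F_neg)
        (by simp [Algebra.TensorProduct.one_def])]
      simp only [Finset.univ_unique, Finset.sum_const, Finset.card_singleton, one_smul]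
      rw [show D.elR D.one_mem_F_neg = D.τ from rfl, hy, zero_smul]
    have hz : ∀ m j, (-m = Fr.d j → z m j = D.elR (Fr.e_mem j)) ∧
        (-m ≠ Fr.d j → z m j ∈ Ideal.span {D.τ}) := fun m j => by
      constructor
      · intro h; simp [z, h, show Fr.d j + m = 0 by omega]
      · intro h
        by_cases h' : -m ≤ Fr.d j
        · rw [show z m j = _ from if_pos h']
          exact Ideal.mul_mem_right _ _ (Ideal.pow_mem_of_mem _ (Ideal.mem_span_singleton_self _) _ (by omega))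
        · rw [show z m j = 0 from if_neg h']; exact zero_mem _
    let γ : Fin Fr.N → k := fun j => ∑ m ∈ p.coeff.support, if -m = Fr.d j then β m j else 0
    have hmod : (⟨p, hp⟩ : D.Rees) - ∑ j, γ j • D.elR (Fr.e_mem j) ∈ Ideal.span {D.τ} := by
      rw [hdec]
      simp only [γ, Finset.sum_smul]
      rw [Finset.sum_comm, ← Finset.sum_sub_distrib]
      refine sum_mem fun j _ => ?_
      rw [← Finset.sum_sub_distrib]
      refine sum_mem fun m _ => ?_
      by_cases h : -m = Fr.d j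
      · rw [if_pos h, (hz m j).1 h, sub_self]; exact zero_mem _
      · rw [if_neg h, zero_smul, sub_zero]
        exact Submodule.smul_of_tower_mem _ _ ((hz m j).2 h)
    have hτI : ∀ (B : Type u) [CommRing B] [Algebra k B] (f : D.Rees →ₐ[k] B), f D.τ = 0 →
        f ⟨p, hp⟩ = ∑ j, γ j • f (D.elR (Fr.e_mem j)) := by
      intro B _ _ f hf
      obtain ⟨c, hc⟩ := Ideal.mem_span_singleton'.1 hmod
      have := congrArg f hc
      rw [map_mul, hf, mul_zero, map_sub, map_sum, eq_comm, sub_eq_zero] at this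
      simpa [map_smul] using this
    have hγ : γ = 0 := by
      have h0 := hτI A θ hτθ
      rw [hr] at h0
      simp only [hθe, Finset.smul_sum, smul_smul] at h0
      rw [Finset.sum_comm] at h0
      simp only [← Finset.sum_smul] at h0
      have h1 := Fintype.linearIndependent_iff.1 Fr.indep _ h0.symm
      have hv : (Matrix.of fun i l => y (D.elR (Fr.cp_mem i l))).mulVec γ = 0 :=
        funext fun i => by simpa [Matrix.mulVec, dotProduct, mul_comm] using h1 i
      have := congrArg (Matrix.of fun j i => y (D.elR (Fr.sp_mem j i))).mulVec hv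
      rwa [Matrix.mulVec_mulVec, hY Fr, Matrix.one_mulVec, Matrix.mulVec_zero] at this
    have hτΨ : Ψ D.τ = 0 := by
      rw [show D.τ = D.elR D.one_mem_F_neg from rfl, hΨ, show D.elR D.one_mem_F_neg = D.τ from rfl, hy, zero_smul]
    refine ⟨by rw [hτI _ Ψ hτΨ, hγ]; simp, ?_⟩
    have := hmod
    simpa [hγ] using this
  let lam₀ : A →ₐ[k] k[T;T⁻¹] :=
    (Ideal.Quotient.liftₐ (RingHom.ker θ) Ψ (fun r hr => (hker r hr).1)).comp
      ((Ideal.quotientKerAlgEquivOfSurjective hsurj).symm : A →ₐ[k] (D.Rees ⧸ RingHom.ker θ))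
  have hlam : ∀ r, lam₀ (θ r) = Ψ r := fun r => by
    simp only [lam₀, AlgHom.comp_apply, AlgEquiv.coe_toAlgHom]
    rw [show (Ideal.quotientKerAlgEquivOfSurjective hsurj).symm (θ r) = Ideal.Quotient.mk _ r from
      (Ideal.quotientKerAlgEquivOfSurjective hsurj).symm_apply_eq.2 rfl]
    rfl
  obtain ⟨Fr, hgen⟩ := D.exists_gen_frame
  let Y : Matrix (Fin Fr.N) (Fin Fr.N) k[T;T⁻¹] :=
    (Matrix.of fun i l => y (D.elR (Fr.cp_mem i l))).map (algebraMap k k[T;T⁻¹])
  let Y' : Matrix (Fin Fr.N) (Fin Fr.N) k[T;T⁻¹] :=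
    (Matrix.of fun j i => y (D.elR (Fr.sp_mem j i))).map (algebraMap k k[T;T⁻¹])
  have hYY' : Y * Y' = 1 ∧ Y' * Y = 1 := by
    simp only [Y, Y', ← Matrix.map_mul, hY Fr, hY' Fr, and_self]
    exact Matrix.map_one _ (map_zero _) (map_one _)
  have hΛ : Fr.c.map lam₀ = Y * Matrix.diagonal (fun j => T (Fr.d j)) * Y' := by
    have h : Fr.c.map lam₀ * Y = Y * Matrix.diagonal (fun j => T (Fr.d j)) := by
      refine Matrix.ext fun m j => ?_
      rw [Matrix.mul_diagonal]
      have h1 := hθ _ _ (Fr.cp_mem m j) _ (fun i => Fr.c m i) (fun i => Fr.cp i j) (fun i => Fr.cp_mem i j) (by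
        simp only [Frame.cp, Matrix.mul_apply, Matrix.map_apply, map_sum, TensorProduct.tmul_sum]
        simp only [mul_comm _ (algebraMap k A _), ← Algebra.smul_def, map_smul, comul_coeff Fr.indep Fr.hc,
          Finset.smul_sum, ← TensorProduct.tmul_smul]
        exact Finset.sum_comm)
      have h2 := congrArg lam₀ h1
      rw [hlam, hΨ, map_sum] at h2
      simp only [Algebra.smul_def, map_mul, AlgHom.commutes] at h2
      simp only [Matrix.mul_apply, Y, Matrix.map_apply, Matrix.of_apply]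
      rw [h2]
      exact Finset.sum_congr rfl fun i _ => mul_comm _ _
    rw [← h, Matrix.mul_assoc, hYY'.1, Matrix.mul_one]
  have hc1 : ∀ i l, counit (R := k) (lam₀ (Fr.c i l)) = counit (R := k) (Fr.c i l) := by
    intro i l
    have h := congrArg (fun M : Matrix (Fin Fr.N) (Fin Fr.N) k[T;T⁻¹] => (M.map (Bialgebra.counitAlgHom k k[T;T⁻¹])) i l) hΛ
    simp only [Matrix.map_mul, Matrix.diagonal_map (map_zero (Bialgebra.counitAlgHom k k[T;T⁻¹]))] at h
    have hd : (fun j => (Bialgebra.counitAlgHom k k[T;T⁻¹]) (T (Fr.d j) : k[T;T⁻¹])) = fun _ => 1 :=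
      funext fun j => by simp
    rw [hd, Matrix.diagonal_one, Matrix.mul_one, ← Matrix.map_mul, hYY'.1, Matrix.map_one _ (map_zero _) (map_one _)] at h
    exact h.trans (counit_coeff Fr.indep Fr.hc i l).symm
  have hc2 : ∀ i l, comul (R := k) (lam₀ (Fr.c i l)) =
      Algebra.TensorProduct.map lam₀ lam₀ (comul (R := k) (Fr.c i l)) := by
    intro i l
    let iL : k[T;T⁻¹] →ₐ[k] k[T;T⁻¹] ⊗[k] k[T;T⁻¹] := Algebra.TensorProduct.includeLeft
    let iR : k[T;T⁻¹] →ₐ[k] k[T;T⁻¹] ⊗[k] k[T;T⁻¹] := Algebra.TensorProduct.includeRight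
    let Δ := Bialgebra.comulAlgHom k k[T;T⁻¹]
    have hYc : ∀ M : Matrix (Fin Fr.N) (Fin Fr.N) k, ∀ f : k[T;T⁻¹] →ₐ[k] k[T;T⁻¹] ⊗[k] k[T;T⁻¹],
        (M.map (algebraMap k k[T;T⁻¹])).map f = M.map (algebraMap k _) := fun M f =>
      Matrix.ext fun a b => by rw [Matrix.map_apply, Matrix.map_apply, Matrix.map_apply, f.commutes]
    let dl : Matrix (Fin Fr.N) (Fin Fr.N) k[T;T⁻¹] := Matrix.diagonal fun j => T (Fr.d j)
    have hd : dl.map Δ = dl.map iL * dl.map iR := by
      simp only [dl, Matrix.diagonal_map, map_zero, Matrix.diagonal_mul_diagonal]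
      congr 1
      funext j
      simp [Δ, iL, iR]
    have key : (Fr.c.map lam₀).map Δ = (Fr.c.map lam₀).map iL * (Fr.c.map lam₀).map iR := by
      simp only [hΛ, Matrix.map_mul]
      rw [show (Matrix.diagonal fun j => (T (Fr.d j) : k[T;T⁻¹])) = dl from rfl, hd]
      simp only [Y, Y', hYc]
      have h1 : (Matrix.of fun j i => y (D.elR (Fr.sp_mem j i))).map (algebraMap k (k[T;T⁻¹] ⊗[k] k[T;T⁻¹])) *
          (Matrix.of fun i l => y (D.elR (Fr.cp_mem i l))).map (algebraMap k (k[T;T⁻¹] ⊗[k] k[T;T⁻¹])) = 1 := by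
        rw [← Matrix.map_mul, hY Fr]; exact Matrix.map_one _ (map_zero _) (map_one _)
      simp only [Matrix.mul_assoc]
      rw [← Matrix.mul_assoc (Matrix.map (Matrix.of fun j i => y (D.elR (Fr.sp_mem j i))) _)
        (Matrix.map (Matrix.of fun i l => y (D.elR (Fr.cp_mem i l))) _), h1, Matrix.one_mul]
    have h := congrFun (congrFun key i) l
    simp only [Matrix.map_apply, Matrix.mul_apply, Δ, iL, iR, Bialgebra.comulAlgHom_apply,
      Algebra.TensorProduct.includeLeft_apply, Algebra.TensorProduct.includeRight_apply,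
      Algebra.TensorProduct.tmul_mul_tmul, mul_one, one_mul] at h
    rw [h, comul_coeff Fr.indep Fr.hc, map_sum]
    rfl
  have hw : ∀ l, Fr.w l ∈ Submodule.span k (Set.range fun p : Fin Fr.N × Fin Fr.N => Fr.c p.1 p.2) := fun l => by
    have h := Coalgebra.rTensor_counit_comul (R := k) (Fr.w l)
    rw [Fr.hc, map_sum] at h
    have h2 := congrArg (TensorProduct.lid k A) h
    simp only [map_sum, LinearMap.rTensor_tmul, TensorProduct.lid_tmul, one_smul] at h2
    rw [← h2]
    exact sum_mem fun i _ => Submodule.smul_mem _ _ (Submodule.subset_span ⟨(i, l), rfl⟩)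
  have hext : ∀ {B : Type u} [CommRing B] [Algebra k B] (f g : A →ₐ[k] B),
      (∀ i l, f (Fr.c i l) = g (Fr.c i l)) → f = g := by
    intro B _ _ f g h
    refine AlgHom.ext fun a => ?_
    obtain ⟨q, rfl⟩ := hgen a
    refine DFunLike.congr_fun (f := f.comp (MvPolynomial.aeval Fr.w)) (g := g.comp (MvPolynomial.aeval Fr.w))
      (MvPolynomial.algHom_ext fun l => ?_) q
    simp only [AlgHom.comp_apply, MvPolynomial.aeval_X]
    exact LinearMap.eqOn_span (f := f.toLinearMap) (g := g.toLinearMap) (by rintro _ ⟨⟨i, j⟩, rfl⟩; exact h i j) (hw l)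
  let lam : A →ₐc[k] k[T;T⁻¹] := BialgHom.ofAlgHom lam₀
    (hext _ _ fun i l => hc1 i l) (hext _ _ fun i l => (hc2 i l).symm)
  exact ⟨θ, lam, fun n a ha => (hlam _).trans (hΨ n a ha), hθ, hsurj, fun r hr => (hker r hr).2⟩

end Curve

end Groth.Agent.HMCrit29
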